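import Groth.Agent.H9Abh.Split

/-!
# An equivalence criterion for finite étale covers of affine schemes
-/

set_option autoImplicit false
set_option linter.style.haveILetI false
set_option backward.isDefEq.respectTransparency false
set_option backward.isDefEq.respectTransparency.types false

universe u

open CategoryTheory CategoryTheory.Limits AlgebraicGeometry TensorProduct

noncomputable section

namespace Groth.Agent.H9Elkik

open Groth.Agent.H9Abh

variable (R R' : Type u) [CommRing R] [CommRing R'] [Algebra R R']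

local notation "q" => Spec.map (CommRingCat.ofHom (algebraMap R R'))

variable {R R'}

theorem restrict_map_fst {X Y : FEt.Cat (Spec (CommRingCat.of R))} (φ : X ⟶ Y) :
    ((FEt.restrict q).map φ).left ≫ pullback.fst Y.hom q = pullback.fst X.hom q ≫ φ.left := by
  show pullback.lift _ _ _ ≫ pullback.fst _ _ = _
  exact pullback.lift_fst _ _ _

variable {C D : Type u} [CommRing C] [CommRing D] [Algebra R C] [Algebra R D]
  {hC1 : Module.Finite R C} {hC2 : Algebra.Etale R C} {hD1 : Module.Finite R D} {hD2 : Algebra.Etale R D}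

theorem exists_algHom_of_hom (φ : ofAlg R C hC1 hC2 ⟶ ofAlg R D hD1 hD2) :
    ∃ τ : D →ₐ[R] C, φ.left = Spec.map (CommRingCat.ofHom τ.toRingHom) := by
  obtain ⟨g, hg⟩ := Spec.map_surjective (R := CommRingCat.of D) (S := CommRingCat.of C) φ.left
  have h : CommRingCat.ofHom (algebraMap R D) ≫ g = CommRingCat.ofHom (algebraMap R C) :=
    Spec.map_injective (by rw [Spec.map_comp, hg]; exact Over.w φ.hom)
  exact ⟨{ g.hom with commutes' := fun x => congrArg (fun f => f.hom x) h }, hg.symm.trans rfl⟩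

theorem pullbackIso_inv_fst :
    ((pullbackSymmetry (Spec.map (CommRingCat.ofHom (algebraMap R C))) q ≪≫ pullbackSpecIso R R' C).inv ≫
        pullback.fst _ _ = Spec.map (CommRingCat.ofHom
          (Algebra.TensorProduct.includeRight : C →ₐ[R] R' ⊗[R] C).toRingHom)) ∧
      ((pullbackSymmetry (Spec.map (CommRingCat.ofHom (algebraMap R C))) q ≪≫ pullbackSpecIso R R' C).inv ≫
        pullback.snd _ _ = Spec.map (CommRingCat.ofHom (algebraMap R' (R' ⊗[R] C)))) := by
  refine ⟨?_, ?_⟩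
  · rw [Iso.inv_comp_eq, Iso.trans_hom, Category.assoc]
    exact (((pullbackSymmetry _ _).hom ≫= pullbackSpecIso_hom_snd R R' C).trans
      (pullbackSymmetry_hom_comp_snd _ _)).symm
  · rw [Iso.inv_comp_eq, Iso.trans_hom, Category.assoc]
    exact (((pullbackSymmetry _ _).hom ≫= pullbackSpecIso_hom_fst' R R' C).trans
      (pullbackSymmetry_hom_comp_fst _ _)).symm

theorem map_injective_ofAlg (hff : ∀ σ : D →ₐ[R] R' ⊗[R] C, ∃! τ : D →ₐ[R] C, ∀ d, (1 : R') ⊗ₜ[R] τ d = σ d)
    (φ ψ : ofAlg R C hC1 hC2 ⟶ ofAlg R D hD1 hD2) (h : (FEt.restrict q).map φ = (FEt.restrict q).map ψ) : φ = ψ := by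
  obtain ⟨τ, hτ⟩ := exists_algHom_of_hom φ
  obtain ⟨τ', hτ'⟩ := exists_algHom_of_hom ψ
  have h1 : pullback.fst (Spec.map (CommRingCat.ofHom (algebraMap R C))) q ≫ φ.left =
      pullback.fst (Spec.map (CommRingCat.ofHom (algebraMap R C))) q ≫ ψ.left :=
    (restrict_map_fst φ).symm.trans ((congrArg (fun f => f.left ≫ _) h).trans (restrict_map_fst ψ))
  have h2 := (pullbackSymmetry (Spec.map (CommRingCat.ofHom (algebraMap R C))) q ≪≫ pullbackSpecIso R R' C).inv ≫= h1
  rw [← Category.assoc, ← Category.assoc, pullbackIso_inv_fst.1, hτ, hτ', ← Spec.map_comp, ← Spec.map_comp] at h2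
  have h3 : ∀ d, (1 : R') ⊗ₜ[R] τ d = (1 : R') ⊗ₜ[R] τ' d := fun d =>
    congrArg (fun f => f.hom d) (Spec.map_injective h2)
  have h4 : τ = τ' := (hff ((Algebra.TensorProduct.includeRight : C →ₐ[R] R' ⊗[R] C).comp τ')).unique h3 fun d => rfl
  exact MorphismProperty.Over.Hom.ext (by rw [hτ, hτ', h4])

theorem map_surjective_ofAlg (hff : ∀ σ : D →ₐ[R] R' ⊗[R] C, ∃! τ : D →ₐ[R] C, ∀ d, (1 : R') ⊗ₜ[R] τ d = σ d)
    (ω : (FEt.restrict q).obj (ofAlg R C hC1 hC2) ⟶ (FEt.restrict q).obj (ofAlg R D hD1 hD2)) :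
    ∃ φ, (FEt.restrict q).map φ = ω := by
  let e := pullbackSymmetry (Spec.map (CommRingCat.ofHom (algebraMap R C))) q ≪≫ pullbackSpecIso R R' C
  let m : Spec (CommRingCat.of (R' ⊗[R] C)) ⟶ Spec (CommRingCat.of D) :=
    e.inv ≫ ω.left ≫ pullback.fst (Spec.map (CommRingCat.ofHom (algebraMap R D))) q
  have hw : ω.left ≫ pullback.snd (Spec.map (CommRingCat.ofHom (algebraMap R D))) q =
      pullback.snd (Spec.map (CommRingCat.ofHom (algebraMap R C))) q := Over.w ω.hom
  obtain ⟨g, hg⟩ := Spec.map_surjective m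
  have hgw : CommRingCat.ofHom (algebraMap R D) ≫ g = CommRingCat.ofHom (algebraMap R (R' ⊗[R] C)) := by
    refine Spec.map_injective ?_
    rw [Spec.map_comp, hg]
    simp only [m, e, Category.assoc]
    rw [pullback.condition, reassoc_of% hw, ← Category.assoc, pullbackIso_inv_fst.2, ← Spec.map_comp]
    rfl
  obtain ⟨τ, hτ, -⟩ := hff { g.hom with commutes' := fun x => congrArg (fun f => f.hom x) hgw }
  refine ⟨MorphismProperty.Over.homMk (Spec.map (CommRingCat.ofHom τ.toRingHom)) (by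
    show Spec.map _ ≫ Spec.map _ = Spec.map _
    rw [← Spec.map_comp]
    exact congrArg Spec.map (CommRingCat.hom_ext (RingHom.ext fun x => τ.commutes x))), ?_⟩
  refine MorphismProperty.Over.Hom.ext (pullback.hom_ext ?_ ?_)
  · rw [restrict_map_fst]
    refine (cancel_epi e.inv).1 ?_
    refine ((Category.assoc _ _ _).symm.trans (congrArg (· ≫ _) pullbackIso_inv_fst.1)).trans (Eq.trans ?_ hg)
    show Spec.map _ ≫ Spec.map _ = _
    rw [← Spec.map_comp]
    exact congrArg Spec.map (CommRingCat.hom_ext (RingHom.ext hτ))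
  · exact (Over.w ((FEt.restrict q).map (MorphismProperty.Over.homMk _ _ _)).hom).trans hw.symm

variable (R R')

/-- The criterion. -/
theorem isEquivalence_restrict
    (hff : ∀ (C D : Type u) [CommRing C] [CommRing D] [Algebra R C] [Module.Finite R C] [Algebra.Etale R C]
      [Algebra R D] [Algebra.Etale R D] (σ : D →ₐ[R] R' ⊗[R] C), ∃! τ : D →ₐ[R] C, ∀ d, (1 : R') ⊗ₜ[R] τ d = σ d)
    (hes : ∀ (C' : Type u) [CommRing C'] [Algebra R' C'] [Module.Finite R' C'] [Algebra.Etale R' C'],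
      ∃ (C : Type u) (_ : CommRing C) (_ : Algebra R C) (_ : Module.Finite R C) (_ : Algebra.Etale R C),
        Nonempty (R' ⊗[R] C ≃ₐ[R'] C')) :
    (FEt.restrict q).IsEquivalence := by
  haveI : (FEt.restrict q).Faithful := ⟨fun {X Y} φ ψ h => by
    obtain ⟨C, _, _, hC1, hC2, ⟨eX⟩⟩ := exists_ofAlg R X
    obtain ⟨D, _, _, hD1, hD2, ⟨eY⟩⟩ := exists_ofAlg R Y
    have := map_injective_ofAlg (fun σ => hff C D σ) (eX.inv ≫ φ ≫ eY.hom) (eX.inv ≫ ψ ≫ eY.hom)
      (by simp only [Functor.map_comp, h])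
    simpa using this⟩
  haveI : (FEt.restrict q).Full := ⟨fun {X Y} ω => by
    obtain ⟨C, _, _, hC1, hC2, ⟨eX⟩⟩ := exists_ofAlg R X
    obtain ⟨D, _, _, hD1, hD2, ⟨eY⟩⟩ := exists_ofAlg R Y
    obtain ⟨φ, hφ⟩ := map_surjective_ofAlg (fun σ => hff C D σ)
      ((FEt.restrict q).map eX.inv ≫ ω ≫ (FEt.restrict q).map eY.hom)
    refine ⟨eX.hom ≫ φ ≫ eY.inv, ?_⟩
    rw [Functor.map_comp, Functor.map_comp, hφ]
    simp [← Functor.map_comp, ← Functor.map_comp_assoc]⟩
  haveI : (FEt.restrict q).EssSurj := ⟨fun W => by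
    obtain ⟨C', _, _, h1, h2, ⟨eW⟩⟩ := exists_ofAlg R' W
    obtain ⟨C, _, _, hC1, hC2, ⟨e⟩⟩ := hes C'
    haveI := hC1; haveI := hC2
    obtain ⟨e1⟩ := restrict_ofAlg R C R' hC1 hC2 inferInstance inferInstance
    obtain ⟨e2⟩ := ofAlg_iso e inferInstance inferInstance h1 h2
    exact ⟨ofAlg R C hC1 hC2, ⟨e1 ≪≫ e2 ≪≫ eW.symm⟩⟩⟩
  exact {}

end Groth.Agent.H9Elkik
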