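import Mathlib.RingTheory.AdicCompletion.Completeness
import Mathlib.RingTheory.AdicCompletion.Algebra

/-!
# The completion along a principal ideal modulo powers of the generator
-/

set_option autoImplicit false

universe u

namespace Groth.Agent.H9Elkik

variable (A : Type u) [CommRing A] (t : A)

theorem completion_inj (M : ℕ) (x : A)
    (hx : algebraMap A (AdicCompletion (Ideal.span {t}) A) x ∈
      Ideal.span {algebraMap A (AdicCompletion (Ideal.span {t}) A) t ^ M}) : x ∈ Ideal.span {t ^ M} := by
  obtain ⟨c, hc⟩ := Ideal.mem_span_singleton'.1 hx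
  have h := congrArg (AdicCompletion.evalₐ (Ideal.span {t}) M) hc
  simp only [map_mul, map_pow, AlgHom.commutes] at h
  rw [Ideal.Quotient.algebraMap_eq] at h
  rw [← map_pow (Ideal.Quotient.mk _), show Ideal.Quotient.mk (Ideal.span {t} ^ M) (t ^ M) = 0 from
    Ideal.Quotient.eq_zero_iff_mem.2 (Ideal.pow_mem_pow (Ideal.mem_span_singleton_self t) M), mul_zero] at h
  rw [← Ideal.span_singleton_pow]
  exact Ideal.Quotient.eq_zero_iff_mem.1 h.symm

theorem completion_surj (M : ℕ) (s : AdicCompletion (Ideal.span {t}) A) :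
    ∃ a, s - algebraMap A (AdicCompletion (Ideal.span {t}) A) a ∈
      Ideal.span {algebraMap A (AdicCompletion (Ideal.span {t}) A) t ^ M} := by
  have hfg : (Ideal.span {t}).FG := ⟨{t}, by simp⟩
  obtain ⟨f, rfl⟩ := AdicCompletion.mk_surjective (Ideal.span {t}) A s
  refine ⟨f M, ?_⟩
  have h : AdicCompletion.mk (Ideal.span {t}) A f - algebraMap A _ (f M) ∈
      (Ideal.span {t} ^ M • ⊤ : Submodule A (AdicCompletion (Ideal.span {t}) A)) := by
    rw [AdicCompletion.pow_smul_top_eq_ker_eval hfg, LinearMap.mem_ker, map_sub, sub_eq_zero,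
      AdicCompletion.algebraMap_apply]
    rfl
  rwa [Ideal.smul_top_eq_map, Submodule.restrictScalars_mem, Ideal.map_pow, Ideal.map_span, Set.image_singleton,
    Ideal.span_singleton_pow] at h

theorem completion_jac :
    Ideal.span {algebraMap A (AdicCompletion (Ideal.span {t}) A) t} ≤ Ideal.jacobson ⊥ := by
  have hfg : (Ideal.span {t}).FG := ⟨{t}, by simp⟩
  haveI : IsAdicComplete ((Ideal.span {t}).map (algebraMap A (AdicCompletion (Ideal.span {t}) A)))
      (AdicCompletion (Ideal.span {t}) A) :=
    (IsAdicComplete.map_algebraMap_iff _ _).mpr (AdicCompletion.isAdicComplete hfg)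
  have := IsAdicComplete.le_jacobson_bot ((Ideal.span {t}).map (algebraMap A (AdicCompletion (Ideal.span {t}) A)))
  rwa [Ideal.map_span, Set.image_singleton] at this

end Groth.Agent.H9Elkik
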