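import Groth.Agent.H9Elkik.Root

/-!
# Approximation of points of smooth algebras over the localisation of a henselian pair
-/

set_option autoImplicit false
set_option linter.style.haveILetI false

universe u

open MvPolynomial

namespace Groth.Agent.H9Elkik

variable {A : Type u} [CommRing A] {t : A} {At : Type u} [CommRing At] [Algebra A At] [IsLocalization.Away t At]
  {n : ℕ}

theorem exists_clear_poly (z : MvPolynomial (Fin n) At) :
    ∃ (e : ℕ) (z₀ : MvPolynomial (Fin n) A), C (algebraMap A At t) ^ e * z = MvPolynomial.map (algebraMap A At) z₀ := by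
  induction z using MvPolynomial.induction_on with
  | C r =>
    obtain ⟨e, a, ha⟩ := IsLocalization.Away.surj (S := At) t r
    exact ⟨e, C a, by rw [map_C, ← map_pow, ← map_mul, mul_comm, ha]⟩
  | add p q hp hq =>
    obtain ⟨e, p₀, hp⟩ := hp
    obtain ⟨e', q₀, hq⟩ := hq
    refine ⟨e + e', C t ^ e' * p₀ + C t ^ e * q₀, ?_⟩
    rw [map_add, map_mul, map_mul, map_pow, map_pow, map_C, ← hp, ← hq, pow_add]
    ring
  | mul_X p i hp =>
    obtain ⟨e, p₀, hp⟩ := hp
    exact ⟨e, p₀ * X i, by rw [map_mul, map_X, ← hp, mul_assoc]⟩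

theorem exists_clear_mem (hinjA : Function.Injective (algebraMap A At)) {ι : Type*} [Finite ι]
    (h : ι → MvPolynomial (Fin n) A) {x : MvPolynomial (Fin n) A}
    (hx : MvPolynomial.map (algebraMap A At) x ∈ Ideal.span (Set.range fun i => MvPolynomial.map (algebraMap A At) (h i))) :
    ∃ e : ℕ, C t ^ e * x ∈ Ideal.span (Set.range h) := by
  classical
  haveI := Fintype.ofFinite ι
  obtain ⟨c, hc⟩ := (Submodule.mem_span_range_iff_exists_fun _).1 hx
  choose e c₀ hc₀ using fun i => exists_clear_poly (A := A) (t := t) (c i)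
  let E := ∑ i, e i
  refine ⟨E, ?_⟩
  have he : C t ^ E * x = ∑ i, C t ^ (E - e i) * c₀ i * h i := by
    refine MvPolynomial.map_injective (algebraMap A At) hinjA ?_
    simp only [map_mul, map_pow, map_C, map_sum]
    rw [← hc, Finset.mul_sum]
    refine Finset.sum_congr rfl fun i _ => ?_
    rw [← hc₀ i, smul_eq_mul, ← mul_assoc, ← mul_assoc, ← pow_add,
      Nat.sub_add_cancel (Finset.single_le_sum (fun i _ => Nat.zero_le (e i)) (Finset.mem_univ i))]
  rw [he]
  exact sum_mem fun i _ => Ideal.mul_mem_left _ _ (Ideal.subset_span ⟨i, rfl⟩)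

set_option maxHeartbeats 1000000 in
/-- Smooth systems after inverting `t` satisfy a smoothness identity. -/
theorem exists_smooth_identity (hinjA : Function.Injective (algebraMap A At)) {B : Type u} [CommRing B]
    [Algebra At B] [Algebra.FormallySmooth At B] (φ : MvPolynomial (Fin n) At →ₐ[At] B) (hφ : Function.Surjective φ)
    {m : ℕ} (g : Fin m → MvPolynomial (Fin n) A)
    (hker : RingHom.ker φ = Ideal.span (Set.range fun l => MvPolynomial.map (algebraMap A At) (g l))) :
    ∃ (k : ℕ) (R : Fin n → Fin m → MvPolynomial (Fin n) A), ∀ l,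
      C t ^ k * g l - ∑ j, pderiv j (g l) * ∑ p, R j p * g p ∈ Ideal.span (Set.range g) ^ 2 := by
  classical
  let P := MvPolynomial (Fin n) At
  let K : Ideal P := RingHom.ker φ
  let π : P →ₐ[At] P ⧸ K ^ 2 := Ideal.Quotient.mkₐ At (K ^ 2)
  let I : Ideal (P ⧸ K ^ 2) := K.map π
  have hI : I ^ 2 = ⊥ := by
    rw [← Ideal.map_pow]
    exact Ideal.map_quotient_self _
  let eB : (P ⧸ RingHom.ker φ) ≃ₐ[At] B := Ideal.quotientKerAlgEquivOfSurjective hφ
  let g0 : B →ₐ[At] (P ⧸ K ^ 2) ⧸ I :=
    (Ideal.Quotient.liftₐ (RingHom.ker φ) ((Ideal.Quotient.mkₐ At I).comp π)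
      (fun z hz => Ideal.Quotient.eq_zero_iff_mem.2 (Ideal.mem_map_of_mem _ hz))).comp eB.symm.toAlgHom
  have hg0 : ∀ z, g0 (φ z) = Ideal.Quotient.mkₐ At I (π z) := fun z => by
    have : eB.symm (φ z) = Ideal.Quotient.mk _ z := by
      apply eB.injective
      rw [AlgEquiv.apply_symm_apply]
      rfl
    simp only [g0, AlgHom.comp_apply, AlgEquiv.toAlgHom_eq_coe, AlgHom.coe_coe]
    erw [this]
    rfl
  obtain ⟨σ, hσ⟩ := Algebra.FormallySmooth.exists_lift I ⟨2, hI⟩ g0
  let τ : P →ₐ[At] P ⧸ K ^ 2 := σ.comp φ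
  have hτ : ∀ z, π z - τ z ∈ I := fun z => by
    rw [← Ideal.Quotient.eq]
    show _ = Ideal.Quotient.mkₐ At I (σ (φ z))
    rw [← AlgHom.comp_apply, hσ]
    exact (hg0 z).symm
  let gt : Fin m → P := fun l => MvPolynomial.map (algebraMap A At) (g l)
  have hKsq : ∀ {x : MvPolynomial (Fin n) A}, MvPolynomial.map (algebraMap A At) x ∈ K ^ 2 →
      ∃ e, C t ^ e * x ∈ Ideal.span (Set.range g) ^ 2 := by
    intro x hx
    have hK2 : K ^ 2 = Ideal.span (Set.range fun ij : Fin m × Fin m => MvPolynomial.map (algebraMap A At) (g ij.1 * g ij.2)) := by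
      rw [pow_two, show K = Ideal.span (Set.range fun l => MvPolynomial.map (algebraMap A At) (g l)) from hker, Ideal.span_mul_span']
      refine congrArg Ideal.span (Set.ext fun x => ⟨?_, ?_⟩)
      · rintro ⟨_, ⟨i, rfl⟩, _, ⟨j, rfl⟩, rfl⟩
        exact ⟨(i, j), map_mul _ _ _⟩
      · rintro ⟨⟨i, j⟩, rfl⟩
        exact ⟨_, ⟨i, rfl⟩, _, ⟨j, rfl⟩, (map_mul _ _ _).symm⟩
    rw [hK2] at hx
    obtain ⟨e, he⟩ := exists_clear_mem (t := t) hinjA (fun ij : Fin m × Fin m => g ij.1 * g ij.2) hx
    refine ⟨e, (Ideal.span_le.2 ?_) he⟩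
    rintro _ ⟨⟨i, j⟩, rfl⟩
    rw [SetLike.mem_coe, pow_two]
    exact Ideal.mul_mem_mul (Ideal.subset_span ⟨i, rfl⟩) (Ideal.subset_span ⟨j, rfl⟩)
  -- the displacement
  have hd : ∀ i, ∃ (e : ℕ) (H : Fin m → MvPolynomial (Fin n) A),
      π (C (algebraMap A At t)) ^ e * (π (X i) - τ (X i)) = π (MvPolynomial.map (algebraMap A At) (∑ p, H p * g p)) := by
    intro i
    obtain ⟨u, hu, hu'⟩ := (Ideal.mem_map_iff_of_surjective _ Ideal.Quotient.mk_surjective).1 (hτ (X i))
    rw [show K = Ideal.span (Set.range gt) from hker] at hu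
    obtain ⟨c, hc⟩ := (Submodule.mem_span_range_iff_exists_fun P).1 hu
    choose e c₀ hc₀ using fun p => exists_clear_poly (A := A) (t := t) (c p)
    let E := ∑ p, e p
    refine ⟨E, fun p => C t ^ (E - e p) * c₀ p, ?_⟩
    rw [← hu', ← hc]
    show π _ ^ E * π _ = _
    rw [← map_pow, ← map_mul]
    refine congrArg π ?_
    rw [Finset.mul_sum, map_sum]
    refine Finset.sum_congr rfl fun p _ => ?_
    rw [map_mul, map_mul, map_pow, map_C, ← hc₀ p, smul_eq_mul, ← mul_assoc, ← mul_assoc, ← pow_add,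
      Nat.sub_add_cancel (Finset.single_le_sum (fun i _ => Nat.zero_le (e i)) (Finset.mem_univ p))]
  choose e H hH using hd
  let E := ∑ i, e i
  let R : Fin n → Fin m → MvPolynomial (Fin n) A := fun j p => C t ^ (E - e j) * H j p
  have hR : ∀ j, π (MvPolynomial.map (algebraMap A At) (∑ p, R j p * g p)) =
      π (C (algebraMap A At t)) ^ E * (π (X j) - τ (X j)) := fun j => by
    simp only [R, mul_assoc, ← Finset.mul_sum]
    rw [map_mul, map_mul, map_pow, map_C, ← hH, map_pow, ← mul_assoc, ← pow_add,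
      Nat.sub_add_cancel (Finset.single_le_sum (fun i _ => Nat.zero_le (e i)) (Finset.mem_univ j))]
  have hzero : ∀ l, MvPolynomial.map (algebraMap A At)
      (C t ^ E * g l - ∑ j, pderiv j (g l) * ∑ p, R j p * g p) ∈ K ^ 2 := by
    intro l
    refine Ideal.Quotient.eq_zero_iff_mem.1 (?_ : π _ = 0)
    have ht := H4RG.taylor_mem_sq (fun i => π (X i)) (fun i => τ (X i) - π (X i)) (gt l)
    have h2 : Ideal.span (Set.range fun i => τ (X i) - π (X i)) ^ 2 ≤ (⊥ : Ideal (P ⧸ K ^ 2)) := by
      rw [← hI]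
      refine Ideal.pow_right_mono (Ideal.span_le.2 ?_) 2
      rintro _ ⟨i, rfl⟩
      show τ (X i) - π (X i) ∈ I
      rw [← neg_sub]
      exact I.neg_mem (hτ (X i))
    have h3 := Ideal.mem_bot.1 (h2 ht)
    have hx : ((fun i => π (X i)) + fun i => τ (X i) - π (X i)) = fun i => τ (X i) :=
      funext fun i => add_sub_cancel (π (X i)) (τ (X i))
    have hτe : ∀ z, aeval (fun i => τ (X i)) z = τ z := fun z => (DFunLike.congr_fun (aeval_unique τ) z).symm
    have hπe : ∀ z, aeval (fun i => π (X i)) z = π z := fun z => (DFunLike.congr_fun (aeval_unique π) z).symm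
    simp only [hx, hτe, hπe] at h3
    have hτ0 : τ (gt l) = 0 := by
      have : φ (gt l) = 0 := RingHom.mem_ker.1 (hker.symm ▸ Ideal.subset_span ⟨l, rfl⟩)
      show σ (φ (gt l)) = 0
      rw [this, map_zero]
    rw [hτ0] at h3
    simp only [map_sub, map_mul, map_pow, map_C, map_sum]
    have e1 : ∀ j, π (MvPolynomial.map (algebraMap A At) (pderiv j (g l))) * ∑ p, π (MvPolynomial.map (algebraMap A At) (R j p)) * π (MvPolynomial.map (algebraMap A At) (g p)) =
        π (C (algebraMap A At t)) ^ E * (π (pderiv j (gt l)) * (π (X j) - τ (X j))) := fun j => by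
      have := hR j
      simp only [map_sum, map_mul] at this
      rw [this, show pderiv j (gt l) = MvPolynomial.map (algebraMap A At) (pderiv j (g l)) from pderiv_map]
      ring
    simp only [e1, ← Finset.mul_sum]
    rw [show (∑ x, π (pderiv x (gt l)) * (τ (X x) - π (X x))) = -∑ x, π (pderiv x (gt l)) * (π (X x) - τ (X x)) by
      rw [← Finset.sum_neg_distrib]; exact Finset.sum_congr rfl fun x _ => by ring] at h3
    show π (C (algebraMap A At t)) ^ E * π (gt l) - _ = _
    linear_combination (-(π (C (algebraMap A At t)) ^ E)) * h3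
  choose e' he' using fun l => hKsq (hzero l)
  let E' := ∑ l, e' l
  refine ⟨E' + E, fun j p => C t ^ E' * R j p, fun l => ?_⟩
  obtain ⟨c, hc⟩ := Nat.exists_eq_add_of_le (Finset.single_le_sum (fun i _ => Nat.zero_le (e' i)) (Finset.mem_univ l))
  have : C t ^ (E' + E) * g l - ∑ j, pderiv j (g l) * ∑ p, C t ^ E' * R j p * g p =
      C t ^ c * (C t ^ e' l * (C t ^ E * g l - ∑ j, pderiv j (g l) * ∑ p, R j p * g p)) := by
    rw [← mul_assoc (C t ^ c), ← pow_add, add_comm c, ← hc, pow_add, mul_sub, mul_assoc, Finset.mul_sum]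
    congr 1
    refine Finset.sum_congr rfl fun j _ => ?_
    simp only [Finset.mul_sum]
    exact Finset.sum_congr rfl fun p _ => by ring
  rw [this]
  exact Ideal.mul_mem_left _ _ (he' l)

set_option maxHeartbeats 1000000 in
/-- Points of smooth algebras in a ring agreeing with `A` modulo powers of `t` are approximated by points
in the localisation. -/
theorem exists_section_of_nzd [HenselianRing A (Ideal.span {t})] (hinjA : Function.Injective (algebraMap A At))
    {T : Type u} [CommRing T] (ψ : At →+* T) (D : Subring T) (hDA : ∀ a, ψ (algebraMap A At a) ∈ D)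
    (hD : ∀ z : T, ∃ k : ℕ, ψ (algebraMap A At t) ^ k * z ∈ D)
    (hsurj : ∀ (N : ℕ), ∀ d ∈ D, ∃ a : A, ∃ c ∈ D, d - ψ (algebraMap A At a) = ψ (algebraMap A At t) ^ N * c)
    (hinj : ∀ (N : ℕ) (x : A), ∀ c ∈ D, ψ (algebraMap A At x) = ψ (algebraMap A At t) ^ N * c → t ^ N ∣ x)
    {B : Type u} [CommRing B] [Algebra At B] [Algebra.Smooth At B]
    (σ : B →+* T) (hσ : ∀ z, σ (algebraMap At B z) = ψ z) (p : ℕ) {r : ℕ} (b : Fin r → B) :
    ∃ τ : B →ₐ[At] At, ∀ i, ∃ c ∈ D, σ (b i) - ψ (τ (b i)) = ψ (algebraMap A At t) ^ p * c := by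
  classical
  have hu : IsUnit (algebraMap A At t) := IsLocalization.Away.algebraMap_isUnit t
  have ht : ∀ x, t * x = 0 → x = 0 := fun x hx => hinjA (by
    rw [map_zero]
    refine hu.mul_right_eq_zero.1 ?_
    rw [← map_mul, hx, map_zero])
  -- scaled generators
  obtain ⟨n, φ₀, hφ₀⟩ := Algebra.FiniteType.iff_quotient_mvPolynomial''.1 (inferInstance : Algebra.FiniteType At B)
  choose k hk using fun j => hD (σ (φ₀ (X j)))
  let a := ∑ j, k j
  obtain ⟨ti, hti⟩ := hu.exists_right_inv
  let φ : MvPolynomial (Fin n) At →ₐ[At] B := aeval fun j => algebraMap At B (algebraMap A At t ^ a) * φ₀ (X j)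
  have hφ : Function.Surjective φ := fun z => by
    obtain ⟨w, rfl⟩ := hφ₀ z
    refine ⟨aeval (fun j => C (ti ^ a) * X j) w, ?_⟩
    rw [← AlgHom.comp_apply, comp_aeval]
    conv_rhs => rw [aeval_unique φ₀]
    congr 2
    funext j
    simp only [map_mul, Function.comp_apply, φ, aeval_C, aeval_X]
    rw [← mul_assoc, ← map_mul, ← mul_pow, mul_comm ti, hti, one_pow, map_one, one_mul]
  have hmemD : ∀ j, σ (φ (X j)) ∈ D := fun j => by
    obtain ⟨c, hc⟩ := Nat.exists_eq_add_of_le (Finset.single_le_sum (fun i _ => Nat.zero_le (k i)) (Finset.mem_univ j))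
    show σ ((aeval fun j => algebraMap At B (algebraMap A At t ^ a) * φ₀ (X j)) (X j)) ∈ D
    rw [aeval_X, map_mul, hσ, map_pow, show a = c + k j from hc.trans (add_comm _ _), pow_add, mul_assoc]
    exact D.mul_mem (pow_mem (hDA t) c) (hk j)
  obtain ⟨m, f, hf⟩ := Submodule.fg_iff_exists_fin_generating_family.1
    (Algebra.FinitePresentation.ker_fG_of_surjective φ hφ)
  choose e g hg using fun l => exists_clear_poly (A := A) (t := t) (f l)
  have hker : RingHom.ker φ = Ideal.span (Set.range fun l => MvPolynomial.map (algebraMap A At) (g l)) := by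
    refine le_antisymm (hf.ge.trans (Ideal.span_le.2 ?_)) (Ideal.span_le.2 ?_)
    · rintro _ ⟨l, rfl⟩
      have : f l = C (ti ^ e l) * MvPolynomial.map (algebraMap A At) (g l) := by
        rw [← hg, ← map_pow, ← mul_assoc, ← map_mul, ← mul_pow, mul_comm ti, hti, one_pow, map_one, one_mul]
      rw [SetLike.mem_coe, this]
      exact Ideal.mul_mem_left _ _ (Ideal.subset_span ⟨l, rfl⟩)
    · rintro _ ⟨l, rfl⟩
      show MvPolynomial.map (algebraMap A At) (g l) ∈ RingHom.ker φ
      rw [← hg l]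
      exact Ideal.mul_mem_left _ _ (hf.le (Submodule.subset_span ⟨l, rfl⟩))
  obtain ⟨K, R, hR⟩ := exists_smooth_identity (t := t) hinjA φ hφ g hker
  choose G hG using fun i => hφ (b i)
  choose ε G₀ hG₀ using fun i => exists_clear_poly (A := A) (t := t) (G i)
  let P₀ := p + ∑ i, ε i
  let k₁ := P₀ + K
  have hR' : ∀ l, C t ^ k₁ * g l - ∑ j, pderiv j (g l) * ∑ q, C t ^ P₀ * R j q * g q ∈ Ideal.span (Set.range g) ^ 2 := by
    intro l
    have : C t ^ k₁ * g l - ∑ j, pderiv j (g l) * ∑ q, C t ^ P₀ * R j q * g q =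
        C t ^ P₀ * (C t ^ K * g l - ∑ j, pderiv j (g l) * ∑ q, R j q * g q) := by
      rw [pow_add, mul_sub, mul_assoc, Finset.mul_sum]
      congr 1
      refine Finset.sum_congr rfl fun j _ => ?_
      simp only [Finset.mul_sum]
      exact Finset.sum_congr rfl fun q _ => by ring
    rw [this]
    exact Ideal.mul_mem_left _ _ (hR l)
  -- the approximate point
  choose X₀ c hc hX₀ using fun j => hsurj (3 * k₁ + 1) _ (hmemD j)
  let gD : A →+* D := (ψ.comp (algebraMap A At)).codRestrict D hDA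
  let x' : Fin n → D := fun j => ⟨σ (φ (MvPolynomial.X j)), hmemD j⟩
  have heval : ∀ z : MvPolynomial (Fin n) A,
      ((eval x' (MvPolynomial.map gD z) : D) : T) = σ (φ (MvPolynomial.map (algebraMap A At) z)) := fun z => by
    induction z using MvPolynomial.induction_on with
    | C r => simp [gD, hσ]
    | add z w hz hw => simp only [map_add, Subring.coe_add, hz, hw]
    | mul_X z j hz => simp only [map_mul, map_X, eval_X, Subring.coe_mul, hz]; rfl
  have hevalX : ∀ (Z : Fin n → A) (z : MvPolynomial (Fin n) A),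
      ((eval (fun j => gD (Z j)) (MvPolynomial.map gD z) : D) : T) = ψ (algebraMap A At (eval Z z)) := fun Z z => by
    induction z using MvPolynomial.induction_on with
    | C r => simp [gD]
    | add z w hz hw => simp only [map_add, Subring.coe_add, hz, hw]
    | mul_X z j hz => simp only [map_mul, map_X, eval_X, Subring.coe_mul, hz]; rfl
  have hX : ∀ l, t ^ (3 * k₁ + 1) ∣ eval X₀ (g l) := fun l => by
    obtain ⟨d, hd⟩ := dvd_eval_sub (gD t ^ (3 * k₁ + 1)) (MvPolynomial.map gD (g l)) (X := fun j => gD (X₀ j)) (Y := x')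
      fun j => ⟨⟨c j, hc j⟩, Subtype.ext (hX₀ j)⟩
    refine hinj _ _ _ (D.neg_mem d.2) ?_
    have h := congrArg Subtype.val hd
    rw [AddSubgroupClass.coe_sub, MulMemClass.coe_mul, SubmonoidClass.coe_pow, heval, hevalX] at h
    have h0 : φ (MvPolynomial.map (algebraMap A At) (g l)) = 0 :=
      RingHom.mem_ker.1 (hker.ge (Ideal.subset_span ⟨l, rfl⟩))
    rw [h0, map_zero, zero_sub] at h
    rw [mul_neg, ← neg_eq_iff_eq_neg]
    exact h
  obtain ⟨Y, hY, hYX⟩ := exists_root ht g (fun j q => C t ^ P₀ * R j q) k₁ hR' X₀ hX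
  let θ : MvPolynomial (Fin n) At →ₐ[At] At := aeval fun j => algebraMap A At (Y j)
  have hθ : ∀ z, θ (MvPolynomial.map (algebraMap A At) z) = algebraMap A At (eval Y z) := fun z => by
    induction z using MvPolynomial.induction_on with
    | C r => simp [θ]
    | add z w hz hw => simp only [map_add, hz, hw]
    | mul_X z j hz => rw [map_mul, map_mul, map_mul, map_mul, hz, map_X, eval_X]; simp [θ]
  let τ : B →ₐ[At] At := (Ideal.Quotient.liftₐ (RingHom.ker φ) θ fun z hz => by
      refine (Ideal.span_le (I := RingHom.ker θ)).2 ?_ (hker.le hz)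
      rintro _ ⟨l, rfl⟩
      exact RingHom.mem_ker.2 ((hθ (g l)).trans (by rw [hY l, map_zero]))).comp
    (Ideal.quotientKerAlgEquivOfSurjective hφ).symm.toAlgHom
  have hτ : ∀ z, τ (φ z) = θ z := fun z => by
    have : (Ideal.quotientKerAlgEquivOfSurjective hφ).symm (φ z) = Ideal.Quotient.mk _ z := by
      apply (Ideal.quotientKerAlgEquivOfSurjective hφ).injective
      rw [AlgEquiv.apply_symm_apply]
      rfl
    simp only [τ, AlgHom.comp_apply, AlgEquiv.toAlgHom_eq_coe, AlgHom.coe_coe]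
    erw [this]
    rfl
  refine ⟨τ, fun i => ?_⟩
  obtain ⟨d, hd⟩ := dvd_eval_sub (gD t ^ (p + ε i)) (MvPolynomial.map gD (G₀ i)) (X := fun j => gD (Y j)) (Y := x')
    fun j => by
      have h1 : gD t ^ (p + ε i) ∣ x' j - gD (X₀ j) := (pow_dvd_pow _ (by
        have := Finset.single_le_sum (f := ε) (fun i _ => Nat.zero_le _) (Finset.mem_univ i)
        omega)).trans ⟨⟨c j, hc j⟩, Subtype.ext (hX₀ j)⟩
      have h2 : gD t ^ (p + ε i) ∣ gD (Y j) - gD (X₀ j) := by
        rw [← map_sub, ← map_pow]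
        exact map_dvd gD ((pow_dvd_pow _ (by
          have := Finset.single_le_sum (f := ε) (fun i _ => Nat.zero_le _) (Finset.mem_univ i)
          omega)).trans (hYX j))
      have := dvd_sub h1 h2
      rwa [sub_sub_sub_cancel_right] at this
  refine ⟨d, d.2, ?_⟩
  have h := congrArg Subtype.val hd
  rw [AddSubgroupClass.coe_sub, MulMemClass.coe_mul, SubmonoidClass.coe_pow, heval, hevalX,
    ← hθ, ← hG₀, ← hτ] at h
  simp only [← MvPolynomial.algebraMap_eq, map_mul, map_pow, AlgHom.commutes, hσ, hG, Algebra.algebraMap_self,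
    RingHom.id_apply] at h
  rw [show ((gD t : D) : T) = ψ (algebraMap A At t) from rfl, pow_add, mul_comm (_ ^ p), mul_assoc, ← mul_sub] at h
  exact ((hu.map ψ).pow (ε i)).mul_left_cancel h

end Groth.Agent.H9Elkik
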