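import Groth.Agent.H9Elkik.RootAlg

/-!
# Descending finite étale algebras over `A'[1/t]`
-/

set_option autoImplicit false
set_option linter.style.haveILetI false

universe u

open MvPolynomial TensorProduct

noncomputable section

namespace Groth.Agent.H9Elkik

variable {A : Type u} [CommRing A] {t : A} {n : ℕ}

theorem approx_poly {A' : Type u} [CommRing A'] (φ : A →+* A') (h : Approx t φ) (M : ℕ) (p : MvPolynomial (Fin n) A') :
    ∃ q, C (φ t) ^ M ∣ p - MvPolynomial.map φ q := by
  induction p using MvPolynomial.induction_on with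
  | C r =>
    obtain ⟨a, ha⟩ := h.surj M r
    refine ⟨C a, ?_⟩
    rw [map_C, ← map_sub, ← map_pow]
    exact map_dvd C (Ideal.mem_span_singleton.1 ha)
  | add p q hp hq =>
    obtain ⟨p₀, hp⟩ := hp
    obtain ⟨q₀, hq⟩ := hq
    exact ⟨p₀ + q₀, by rw [map_add, add_sub_add_comm]; exact dvd_add hp hq⟩
  | mul_X p i hp =>
    obtain ⟨p₀, hp⟩ := hp
    exact ⟨p₀ * X i, by rw [map_mul, map_X, ← sub_mul]; exact hp.mul_right _⟩

theorem approx_monic {A' : Type u} [CommRing A'] (φ : A →+* A') (h : Approx t φ) (M : ℕ) (p : Polynomial A')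
    (hp : p.Monic) : ∃ q : Polynomial A, q.Monic ∧ Polynomial.C (φ t) ^ M ∣ p - q.map φ := by
  classical
  choose a ha using fun k => h.surj M (p.coeff k)
  refine ⟨Polynomial.X ^ p.natDegree + ∑ k ∈ Finset.range p.natDegree, Polynomial.C (a k) * Polynomial.X ^ k,
    Polynomial.monic_X_pow_add ?_, ?_⟩
  · refine lt_of_le_of_lt (Polynomial.degree_sum_le _ _) ?_
    rw [Finset.sup_lt_iff (WithBot.bot_lt_coe _)]
    intro k hk
    exact lt_of_le_of_lt (Polynomial.degree_C_mul_X_pow_le _ _) (WithBot.coe_lt_coe.2 (Finset.mem_range.1 hk))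
  · conv_rhs => arg 1; rw [hp.as_sum]
    simp only [Polynomial.map_add, Polynomial.map_pow, Polynomial.map_X, Polynomial.map_sum, Polynomial.map_mul,
      Polynomial.map_C, add_sub_add_left_eq_sub, ← Finset.sum_sub_distrib]
    refine Finset.dvd_sum fun k _ => ?_
    rw [← sub_mul, ← map_sub, ← Polynomial.C_pow]
    exact (map_dvd Polynomial.C (Ideal.mem_span_singleton.1 (ha k))).mul_right _

theorem dvd_of_map_dvd {A' : Type u} [CommRing A'] (φ : A →+* A') (h : Approx t φ) (M : ℕ)
    {q : MvPolynomial (Fin n) A} (hq : C (φ t) ^ M ∣ MvPolynomial.map φ q) : C t ^ M ∣ q := by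
  rw [← map_pow, C_dvd_iff_dvd_coeff] at hq ⊢
  intro i
  have := hq i
  rw [coeff_map] at this
  exact Ideal.mem_span_singleton.1 (h.inj M _ (Ideal.mem_span_singleton.2 this))

/-- Exact systems over `A'` are approximated by systems over `A`. -/
theorem exists_approx_system {A' : Type u} [CommRing A'] (φ : A →+* A') (h : Approx t φ) (m : ℕ)
    (g' : Fin n → MvPolynomial (Fin n) A') (ζ' : MvPolynomial (Fin n) A') (c' : Fin n → MvPolynomial (Fin n) A')
    (hid : C (φ t) ^ m = ζ' * jdet g' + ∑ j, c' j * g' j) (P' : Fin n → Polynomial A')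
    (hP' : ∀ i, (P' i).Monic) (a' : Fin n → Fin n → MvPolynomial (Fin n) A')
    (hb : ∀ i, C (φ t) ^ m * Polynomial.aeval (X i) (P' i) = ∑ j, a' i j * g' j) :
    ∃ g : Fin n → MvPolynomial (Fin n) A, Reg t g m ∧ Bdd t g m ∧
      ∀ j, C (φ t) ^ (2 * m + 1) ∣ g' j - MvPolynomial.map φ (g j) := by
  classical
  let M := 2 * m + 1
  choose g hg using fun j => approx_poly φ h M (g' j)
  obtain ⟨ζ, hζ⟩ := approx_poly φ h M ζ'
  choose c hc using fun j => approx_poly φ h M (c' j)
  choose P hP hPd using fun i => approx_monic φ h M (P' i) (hP' i)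
  choose a ha using fun i j => approx_poly φ h M (a' i j)
  let I : Ideal (MvPolynomial (Fin n) A') := Ideal.span {C (φ t) ^ M}
  let π := Ideal.Quotient.mk I
  have hπ : ∀ {p q : MvPolynomial (Fin n) A'}, C (φ t) ^ M ∣ p - q → π p = π q := fun {p q} hpq =>
    Ideal.Quotient.eq.2 (Ideal.mem_span_singleton.2 hpq)
  have hjdet : π (jdet fun j => MvPolynomial.map φ (g j)) = π (jdet g') := by
    rw [jdet, jdet, RingHom.map_det, RingHom.map_det]
    congr 1
    ext i j
    simp only [RingHom.mapMatrix_apply, Matrix.map_apply, Matrix.of_apply]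
    refine (hπ ?_).symm
    obtain ⟨e, he⟩ := hg j
    refine ⟨pderiv i e, ?_⟩
    rw [← map_sub, he, Derivation.leibniz, ← map_pow, pderiv_C, smul_zero, add_zero, smul_eq_mul]
  have hpow : (C t : MvPolynomial (Fin n) A) ^ M = C t ^ (m + 1) * C t ^ m := by rw [← pow_add]; congr 1; omega
  refine ⟨g, ?_, fun i => ?_, hg⟩
  · obtain ⟨e, he⟩ := dvd_of_map_dvd φ h M (q := C t ^ m - (ζ * jdet g + ∑ j, c j * g j)) (by
      rw [← Ideal.mem_span_singleton, ← Ideal.Quotient.eq_zero_iff_mem]
      show π _ = 0
      simp only [map_sub, map_add, map_mul, map_pow, map_sum, map_C, map_jdet, hjdet]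
      rw [← hπ hζ, Finset.sum_congr rfl fun j _ => show π (MvPolynomial.map φ (c j)) * π (MvPolynomial.map φ (g j)) =
          π (c' j * g' j) by rw [map_mul, hπ (hc j), hπ (hg j)],
        ← map_mul, ← map_sum, ← map_add, ← map_pow, ← hid, sub_self])
    exact ⟨ζ, c, C t ^ m * e, by linear_combination he + hpow * e⟩
  · obtain ⟨e, he⟩ := dvd_of_map_dvd φ h M
      (q := C t ^ m * Polynomial.aeval (X i) (P i) - ∑ j, a i j * g j) (by
      rw [← Ideal.mem_span_singleton, ← Ideal.Quotient.eq_zero_iff_mem]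
      show π _ = 0
      have hPi : π (MvPolynomial.map φ (Polynomial.aeval (X i) (P i))) = π (Polynomial.aeval (X i) (P' i)) := by
        have e1 : MvPolynomial.map φ (Polynomial.aeval (X i) (P i)) = Polynomial.aeval (X i) ((P i).map φ) := by
          rw [Polynomial.aeval_def, Polynomial.hom_eval₂, Polynomial.aeval_def, Polynomial.eval₂_map, map_X]
          congr 1
          exact RingHom.ext fun r => by simp [MvPolynomial.algebraMap_eq]
        rw [e1]
        refine (hπ ?_).symm
        rw [← map_sub]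
        have := map_dvd (Polynomial.aeval (X i : MvPolynomial (Fin n) A')) (hPd i)
        rwa [map_pow, Polynomial.aeval_C, MvPolynomial.algebraMap_eq] at this
      simp only [map_sub, map_mul, map_pow, map_sum, map_C, hPi]
      rw [Finset.sum_congr rfl fun j _ => show π (MvPolynomial.map φ (a i j)) * π (MvPolynomial.map φ (g j)) =
          π (a' i j * g' j) by rw [map_mul, hπ (ha i j), hπ (hg j)],
        ← map_sum, ← map_pow, ← map_mul, hb i, sub_self])
    exact ⟨P i, a i, C t ^ m * e, hP i, by linear_combination he + hpow * e⟩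

section Compare

variable {At : Type u} [CommRing At] [Algebra A At] [IsLocalization.Away t At]

theorem exists_near_root [HenselianRing A (Ideal.span {t})] {g g' : Fin n → MvPolynomial (Fin n) A} {m : ℕ}
    (hg : Reg t g m) (hclose : ∀ j, C t ^ (2 * m + 1) ∣ g' j - g j)
    {C₁ : Type u} [CommRing C₁] [Algebra At C₁] [Algebra A C₁] [IsScalarTower A At C₁] {x : Fin n → C₁}
    (hx : IsRootAlg t At g C₁ x) {C₂ : Type u} [CommRing C₂] [Algebra At C₂] [Algebra A C₂] [IsScalarTower A At C₂]
    {x' : Fin n → C₂} (hx' : IsRootAlg t At g' C₂ x') :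
    ∃ f : C₁ →ₐ[At] C₂, ∀ i, ∃ e : integralClosure A C₂, f (x i) - x' i = algebraMap A C₂ t ^ (m + 1) * e := by
  let E := integralClosure A C₂
  have ht : ∀ z : E, algebraMap A E t * z = 0 → z = 0 := fun z hz => Subtype.ext (by
    have hu : IsUnit (algebraMap A C₂ t) := by
      rw [IsScalarTower.algebraMap_apply A At C₂]
      exact (IsLocalization.Away.algebraMap_isUnit t).map _
    exact hu.mul_right_eq_zero.1 (congrArg Subtype.val hz))
  haveI : HenselianRing E (Ideal.span {algebraMap A E t}) := by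
    have h := Hensel.henselianRing_of_isIntegral' (Ideal.span {t}) E
    rwa [Ideal.map_span, Set.image_singleton] at h
  let X' : Fin n → E := fun i => ⟨x' i, hx'.integral i⟩
  have hX' : ∀ l, algebraMap A E t ^ (2 * m + 1) ∣ aeval X' (g l) := fun l => by
    have h0 : aeval X' (g' l) = 0 := Subtype.ext (by
      rw [show ((aeval X' (g' l) : E) : C₂) = aeval x' (g' l) from (aeval_algebraMap_apply (B := C₂) X' _).symm,
        hx'.root]
      rfl)
    obtain ⟨e, he⟩ := hclose l
    refine ⟨-aeval X' e, ?_⟩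
    have := congrArg (aeval X') he
    rw [map_sub, h0, map_mul, map_pow, aeval_C] at this
    linear_combination -this
  obtain ⟨Y, hY, hYX⟩ := exists_root_sq ht hg X' hX'
  obtain ⟨f, hf⟩ := hx.univ C₂ E (HenselianRing.jac (I := Ideal.span {algebraMap A E t})
    (Ideal.mem_span_singleton_self _)) Y hY
  refine ⟨f, fun i => ?_⟩
  obtain ⟨e, he⟩ := hYX i
  exact ⟨e, by rw [hf]; exact congrArg Subtype.val he⟩

theorem comp_eq_id [HenselianRing A (Ideal.span {t})] {g : Fin n → MvPolynomial (Fin n) A} {m : ℕ} (hg : Reg t g m)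
    {C₁ : Type u} [CommRing C₁] [Algebra At C₁] [Algebra A C₁] [IsScalarTower A At C₁] {x : Fin n → C₁}
    (hx : IsRootAlg t At g C₁ x) {C₂ : Type u} [CommRing C₂] [Algebra At C₂] [Algebra A C₂] [IsScalarTower A At C₂]
    {x' : Fin n → C₂} (f : C₁ →ₐ[At] C₂) (h : C₂ →ₐ[At] C₁)
    (hf : ∀ i, ∃ e : integralClosure A C₂, f (x i) - x' i = algebraMap A C₂ t ^ (m + 1) * e)
    (hh : ∀ i, ∃ e : integralClosure A C₁, h (x' i) - x i = algebraMap A C₁ t ^ (m + 1) * e) :
    h.comp f = AlgHom.id At C₁ := by
  let E := integralClosure A C₁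
  have hu : IsUnit (algebraMap A C₁ t) := by
    rw [IsScalarTower.algebraMap_apply A At C₁]
    exact (IsLocalization.Away.algebraMap_isUnit t).map _
  have ht : ∀ z : E, algebraMap A E t * z = 0 → z = 0 := fun z hz =>
    Subtype.ext (hu.mul_right_eq_zero.1 (congrArg Subtype.val hz))
  haveI : Algebra.IsIntegral A E := inferInstance
  have hjac : algebraMap A E t ∈ Ideal.jacobson (⊥ : Ideal E) := by
    have h := Hensel.map_le_jacobson_of_isIntegral (A := A) (I := Ideal.span {t}) (B := E) HenselianRing.jac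
    rw [Ideal.map_span, Set.image_singleton] at h
    exact h (Ideal.mem_span_singleton_self _)
  let hA : C₁ →ₐ[A] C₁ := (h.comp f).restrictScalars A
  let X : Fin n → E := fun i => ⟨x i, hx.integral i⟩
  let Y : Fin n → E := fun i => ⟨hA (x i), (hx.integral i).map hA⟩
  have hroot : ∀ (Z : Fin n → E) (z : Fin n → C₁), (∀ i, (Z i : C₁) = z i) → ∀ l, aeval z (g l) = 0 →
      aeval Z (g l) = 0 := fun Z z hZ l hz => Subtype.ext (by
    rw [show ((aeval Z (g l) : E) : C₁) = aeval (fun i => (Z i : C₁)) (g l) from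
      (aeval_algebraMap_apply (B := C₁) Z _).symm, funext hZ, hz]
    rfl)
  have hXY : X = Y := by
    refine root_unique ht hjac hg X Y (fun l => hroot X x (fun _ => rfl) l (hx.root l))
      (fun l => hroot Y (hA ∘ x) (fun _ => rfl) l (by
        rw [show aeval (hA ∘ x) (g l) = hA (aeval x (g l)) from (comp_aeval_apply x hA (g l)).symm, hx.root, map_zero]))
      fun i => ?_
    obtain ⟨e, he⟩ := hf i
    obtain ⟨e', he'⟩ := hh i
    refine ⟨⟨h e + e', add_mem (IsIntegral.map (h.restrictScalars A) e.2) e'.2⟩, Subtype.ext ?_⟩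
    show h (f (x i)) - x i = algebraMap A C₁ t ^ (m + 1) * (h e + e')
    have := congrArg h he
    rw [map_sub, map_mul, map_pow, IsScalarTower.algebraMap_apply A At C₂, AlgHom.commutes,
      ← IsScalarTower.algebraMap_apply] at this
    linear_combination this + he'
  exact hx.ext C₁ _ _ fun i => (congrArg Subtype.val (congrFun hXY i)).symm

theorem nonempty_algEquiv [HenselianRing A (Ideal.span {t})] {g g' : Fin n → MvPolynomial (Fin n) A} {m : ℕ}
    (hg : Reg t g m) (hg' : Reg t g' m) (hclose : ∀ j, C t ^ (2 * m + 1) ∣ g' j - g j)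
    {C₁ : Type u} [CommRing C₁] [Algebra At C₁] [Algebra A C₁] [IsScalarTower A At C₁] {x : Fin n → C₁}
    (hx : IsRootAlg t At g C₁ x) {C₂ : Type u} [CommRing C₂] [Algebra At C₂] [Algebra A C₂] [IsScalarTower A At C₂]
    {x' : Fin n → C₂} (hx' : IsRootAlg t At g' C₂ x') : Nonempty (C₁ ≃ₐ[At] C₂) := by
  obtain ⟨f, hf⟩ := exists_near_root hg hclose hx hx'
  obtain ⟨h, hh⟩ := exists_near_root hg' (fun j => by rw [← neg_sub, dvd_neg]; exact hclose j) hx' hx
  exact ⟨AlgEquiv.ofAlgHom f h (comp_eq_id hg' hx' h f hh hf) (comp_eq_id hg hx f h hf hh)⟩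

theorem isRootAlg_tensor {g : Fin n → MvPolynomial (Fin n) A} {A' : Type u} [CommRing A'] [Algebra A A']
    {A't : Type u} [CommRing A't] [Algebra A' A't] [Algebra At A't] [Algebra A A't] [IsScalarTower A A' A't]
    [IsScalarTower A At A't] {C₁ : Type u} [CommRing C₁] [Algebra At C₁] [Algebra A C₁] [IsScalarTower A At C₁]
    {x : Fin n → C₁} (hx : IsRootAlg t At g C₁ x) :
    IsRootAlg (algebraMap A A' t) A't (fun j => MvPolynomial.map (algebraMap A A') (g j)) (A't ⊗[At] C₁)
      (fun i => (1 : A't) ⊗ₜ[At] x i) where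
  integral i := IsIntegral.tower_top (R := A)
    ((hx.integral i).map ((Algebra.TensorProduct.includeRight : C₁ →ₐ[At] A't ⊗[At] C₁).restrictScalars A))
  root l := by
    rw [aeval_map_algebraMap]
    exact (comp_aeval_apply x ((Algebra.TensorProduct.includeRight : C₁ →ₐ[At] A't ⊗[At] C₁).restrictScalars A)
      (g l)).symm.trans (by rw [hx.root, map_zero])
  ext D _ _ f h hfh := by
    letI : Algebra At D := ((algebraMap A't D).comp (algebraMap At A't)).toAlgebra
    haveI : IsScalarTower At A't D := IsScalarTower.of_algebraMap_eq fun _ => rfl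
    refine Algebra.TensorProduct.ext (AlgHom.ext fun a => ?_)
      (hx.ext D ((f.restrictScalars At).comp Algebra.TensorProduct.includeRight)
        ((h.restrictScalars At).comp Algebra.TensorProduct.includeRight) hfh)
    show f (algebraMap A't _ a) = h (algebraMap A't _ a)
    rw [f.commutes, h.commutes]
  univ D _ _ _ _ E hE y hy := by
    letI : Algebra At D := ((algebraMap A't D).comp (algebraMap At A't)).toAlgebra
    haveI : IsScalarTower At A't D := IsScalarTower.of_algebraMap_eq fun _ => rfl
    letI : Algebra A D := ((algebraMap A' D).comp (algebraMap A A')).toAlgebra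
    haveI : IsScalarTower A A' D := IsScalarTower.of_algebraMap_eq fun _ => rfl
    haveI : IsScalarTower A At D := IsScalarTower.of_algebraMap_eq fun a => by
      show algebraMap A' D (algebraMap A A' a) = algebraMap A't D (algebraMap At A't (algebraMap A At a))
      rw [← IsScalarTower.algebraMap_apply A At A't, IsScalarTower.algebraMap_apply A A' A't,
        ← IsScalarTower.algebraMap_apply A' A't D]
    obtain ⟨f, hf⟩ := hx.univ D (E.restrictScalars A) hE (fun i => (y i : E.restrictScalars A)) fun l => by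
      have := hy l
      rw [aeval_map_algebraMap] at this
      exact this
    exact ⟨Algebra.TensorProduct.lift (Algebra.ofId A't D) f fun _ _ => .all _ _, fun i => by
      rw [Algebra.TensorProduct.lift_tmul, map_one, one_mul]; exact hf i⟩

end Compare

end Groth.Agent.H9Elkik
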