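import Groth.Agent.Hensel.Factor
import Groth.Agent.Hensel.PairBasic
import Mathlib.RingTheory.Localization.Integral
import Mathlib.RingTheory.Localization.BaseChange
import Mathlib.RingTheory.IntegralClosure.IsIntegralClosure.Basic
import Mathlib.RingTheory.TensorProduct.Quotient

/-!
# Integral models of finite algebras over `A[1/t]`
-/

set_option autoImplicit false
set_option linter.style.haveILetI false

universe u

open TensorProduct

namespace Groth.Agent.H9Elkik

/-- `φ` is bijective modulo every power of `t`. -/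
structure Approx {A A' : Type u} [CommRing A] [CommRing A'] (t : A) (φ : A →+* A') : Prop where
  inj : ∀ (M : ℕ) x, φ x ∈ Ideal.span {φ t ^ M} → x ∈ Ideal.span {t ^ M}
  surj : ∀ (M : ℕ) s, ∃ a, s - φ a ∈ Ideal.span {φ t ^ M}

variable {A : Type u} [CommRing A] {t : A} {At : Type u} [CommRing At] [Algebra A At] [IsLocalization.Away t At]

theorem exists_model (E : Type u) [CommRing E] [Algebra At E] [Algebra A E] [IsScalarTower A At E]
    [Module.Finite At E] :
    ∃ E₀ : Subalgebra A E, Module.Finite A E₀ ∧ IsLocalization.Away (algebraMap A E₀ t) E := by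
  classical
  obtain ⟨S, hS⟩ := (Module.Finite.fg_top : (⊤ : Submodule At E).FG)
  have hint : ∀ x : E, ∃ k : ℕ, IsIntegral A (algebraMap A E t ^ k * x) := fun x => by
    obtain ⟨⟨_, k, rfl⟩, hk⟩ := IsIntegral.exists_multiple_integral_of_isLocalization (Submonoid.powers t) (Rₘ := At) x
      (Algebra.IsIntegral.isIntegral (R := At) x)
    refine ⟨k, ?_⟩
    rw [← map_pow, ← Algebra.smul_def]
    exact hk
  choose k hk using hint
  let G : Set E := (fun x => algebraMap A E t ^ k x * x) '' (S : Set E)
  let E₀ := Algebra.adjoin A G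
  refine ⟨E₀, ⟨(Submodule.fg_top _).2 (fg_adjoin_of_finite (S.finite_toSet.image _) (by
    rintro _ ⟨x, -, rfl⟩; exact hk x))⟩, ?_⟩
  have hu : IsUnit (algebraMap A E t) := by
    rw [IsScalarTower.algebraMap_apply A At E]
    exact (IsLocalization.Away.algebraMap_isUnit t).map _
  refine (isLocalization_iff _ _).2 ⟨?_, fun z => ?_, fun {x y} h => ⟨1, by rw [Subtype.ext h]⟩⟩
  · rintro ⟨_, e, rfl⟩
    rw [map_pow]
    exact hu.pow e
  · suffices h : ∃ e : ℕ, algebraMap A E t ^ e * z ∈ E₀ by
      obtain ⟨e, he⟩ := h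
      refine ⟨⟨⟨_, he⟩, ⟨algebraMap A E₀ t ^ e, e, rfl⟩⟩, ?_⟩
      rw [mul_comm]
      exact congrArg (· * z) (map_pow E₀.val (algebraMap A E₀ t) e)
    have hz : z ∈ Submodule.span At (S : Set E) := hS ▸ Submodule.mem_top
    induction hz using Submodule.span_induction with
    | mem x hx => exact ⟨k x, Algebra.subset_adjoin ⟨x, hx, rfl⟩⟩
    | zero => exact ⟨0, by simp⟩
    | add x y _ _ hx hy =>
      obtain ⟨e, he⟩ := hx
      obtain ⟨e', he'⟩ := hy
      refine ⟨e + e', ?_⟩
      rw [pow_add, mul_add, mul_right_comm, mul_assoc (algebraMap A E t ^ e) _ y, ← map_pow, ← map_pow] at *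
      exact E₀.add_mem (E₀.mul_mem he (E₀.algebraMap_mem _)) (E₀.mul_mem (E₀.algebraMap_mem _) he')
    | smul c x _ hx =>
      obtain ⟨e, he⟩ := hx
      obtain ⟨l, a, ha⟩ := IsLocalization.Away.surj (S := At) t c
      refine ⟨e + l, ?_⟩
      have h1 : algebraMap At E c * algebraMap A E t ^ l = algebraMap A E a := by
        have := congrArg (algebraMap At E) ha
        rwa [map_mul, map_pow, ← IsScalarTower.algebraMap_apply, ← IsScalarTower.algebraMap_apply] at this
      rw [Algebra.smul_def, show algebraMap A E t ^ (e + l) * (algebraMap At E c * x) =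
        algebraMap A E a * (algebraMap A E t ^ e * x) by rw [← h1, pow_add]; ring]
      exact E₀.mul_mem (E₀.algebraMap_mem _) he

section Tensor

variable {A' : Type u} [CommRing A'] [Algebra A A'] (E : Type u) [CommRing E] [Algebra A E]

theorem approx_tensor (h : Approx t (algebraMap A A')) :
    Approx (algebraMap A E t) ((Algebra.TensorProduct.includeRight : E →ₐ[A] A' ⊗[A] E).toRingHom) where
  inj M x hx := by
    obtain ⟨z, hz⟩ := Ideal.mem_span_singleton.1 hx
    let q : A →+* A ⧸ Ideal.span {t ^ M} := Ideal.Quotient.mk _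
    let r : A →+* A' ⧸ Ideal.span {algebraMap A A' t ^ M} := (Ideal.Quotient.mk _).comp (algebraMap A A')
    have hr : Function.Surjective r := fun y => by
      obtain ⟨s, rfl⟩ := Ideal.Quotient.mk_surjective y
      obtain ⟨a, ha⟩ := h.surj M s
      exact ⟨a, (Ideal.Quotient.eq.2 ha).symm⟩
    have hker : RingHom.ker r = Ideal.span {t ^ M} := by
      ext a
      rw [RingHom.mem_ker]
      refine Ideal.Quotient.eq_zero_iff_mem.trans ⟨h.inj M a, fun ha => ?_⟩
      obtain ⟨c, rfl⟩ := Ideal.mem_span_singleton.1 ha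
      rw [map_mul, map_pow]
      exact Ideal.mul_mem_right _ _ (Ideal.mem_span_singleton_self _)
    let Q := E ⧸ Ideal.span {algebraMap A E t ^ M}
    let g₁ : A' ⧸ Ideal.span {algebraMap A A' t ^ M} →+* Q :=
      (Ideal.quotientMap (Ideal.span {algebraMap A E t ^ M}) (algebraMap A E) (by
        rw [hker, Ideal.span_singleton_le_iff_mem, Ideal.mem_comap, map_pow]
        exact Ideal.mem_span_singleton_self _)).comp (RingHom.quotientKerEquivOfSurjective hr).symm.toRingHom
    let g₀ : A' →ₐ[A] Q := { g₁.comp (Ideal.Quotient.mk _) with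
      commutes' := fun a => by
        show g₁ (r a) = _
        have : (RingHom.quotientKerEquivOfSurjective hr).symm (r a) = Ideal.Quotient.mk _ a :=
          (RingHom.quotientKerEquivOfSurjective hr).symm_apply_eq.2 rfl
        simp only [g₁, RingHom.comp_apply, RingEquiv.toRingHom_eq_coe, RingEquiv.coe_toRingHom, this]
        rfl }
    let Φ : A' ⊗[A] E →ₐ[A] Q := Algebra.TensorProduct.lift g₀ (Ideal.Quotient.mkₐ A _) fun _ _ => .all _ _
    have h1 := congrArg Φ hz
    rw [map_mul, map_pow] at h1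
    have hx0 : ∀ y : E, Φ ((Algebra.TensorProduct.includeRight : E →ₐ[A] A' ⊗[A] E) y) = Ideal.Quotient.mk _ y := fun y => by
      rw [Algebra.TensorProduct.includeRight_apply, Algebra.TensorProduct.lift_tmul, map_one, one_mul]
      rfl
    change Φ (Algebra.TensorProduct.includeRight x) = Φ (Algebra.TensorProduct.includeRight (algebraMap A E t)) ^ M * Φ z at h1
    rw [hx0, hx0] at h1
    have h0 : Ideal.Quotient.mk (Ideal.span {algebraMap A E t ^ M}) (algebraMap A E t) ^ M = 0 :=
      (map_pow (Ideal.Quotient.mk _) _ _).symm.trans (Ideal.Quotient.eq_zero_iff_mem.2 (Ideal.mem_span_singleton_self _))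
    rw [h0, zero_mul] at h1
    exact Ideal.Quotient.eq_zero_iff_mem.1 h1
  surj M s := by
    induction s using TensorProduct.induction_on with
    | zero => exact ⟨0, by simp⟩
    | tmul x y =>
      obtain ⟨a, ha⟩ := h.surj M x
      obtain ⟨c, hc⟩ := Ideal.mem_span_singleton.1 ha
      refine ⟨algebraMap A E a * y, Ideal.mem_span_singleton.2 ⟨c ⊗ₜ[A] y, ?_⟩⟩
      show x ⊗ₜ[A] y - (1 : A') ⊗ₜ[A] (algebraMap A E a * y) = ((1 : A') ⊗ₜ[A] algebraMap A E t) ^ M * _
      rw [Algebra.TensorProduct.tmul_pow, one_pow, ← map_pow, Algebra.TensorProduct.tmul_mul_tmul, one_mul,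
        ← Algebra.smul_def, ← Algebra.smul_def, TensorProduct.tmul_smul, TensorProduct.tmul_smul,
        TensorProduct.smul_tmul', TensorProduct.smul_tmul', ← TensorProduct.sub_tmul, Algebra.smul_def,
        Algebra.smul_def, mul_one, map_pow, hc]
    | add x y hx hy =>
      obtain ⟨a, ha⟩ := hx
      obtain ⟨b, hb⟩ := hy
      exact ⟨a + b, by rw [map_add, add_sub_add_comm]; exact Ideal.add_mem _ ha hb⟩

theorem jac_tensor [Module.Finite A E] (hjac : Ideal.span {algebraMap A A' t} ≤ Ideal.jacobson ⊥) :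
    Ideal.span {(Algebra.TensorProduct.includeRight : E →ₐ[A] A' ⊗[A] E) (algebraMap A E t)} ≤ Ideal.jacobson ⊥ := by
  haveI : Algebra.IsIntegral A' (A' ⊗[A] E) := Algebra.IsIntegral.of_finite A' _
  have h := Hensel.map_le_jacobson_of_isIntegral (A := A') (I := Ideal.span {algebraMap A A' t}) (B := A' ⊗[A] E) hjac
  rw [Ideal.map_span, Set.image_singleton] at h
  rwa [AlgHom.commutes, IsScalarTower.algebraMap_apply A A' (A' ⊗[A] E)]

end Tensor

end Groth.Agent.H9Elkik
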