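import Mathlib.RingTheory.Unramified.Finite
import Mathlib.RingTheory.Localization.Away.Basic
import Mathlib.RingTheory.Jacobson.Ideal

/-!
# Points of unramified algebras which are close are equal
-/

set_option autoImplicit false
set_option linter.style.haveILetI false

universe u

open TensorProduct

namespace Groth.Agent.H9Elkik

variable {K D C : Type u} [CommRing K] [CommRing D] [CommRing C] [Algebra K D] [Algebra K C]
  [Algebra.EssFiniteType K D] [Algebra.FormallyUnramified K D]

theorem eq_of_isUnit (f g : D →ₐ[K] C)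
    (h : IsUnit (Algebra.TensorProduct.lift f g (fun _ _ => .all _ _) (Algebra.FormallyUnramified.elem K D))) : f = g := by
  refine AlgHom.ext fun x => (sub_eq_zero.1 ?_).symm
  refine h.mul_left_eq_zero.1 ?_
  have h1 := congrArg (Algebra.TensorProduct.lift f g (fun _ _ => .all _ _))
    (Algebra.FormallyUnramified.one_tmul_sub_tmul_one_mul_elem (R := K) (S := D) x)
  simpa [map_mul, map_sub] using h1

theorem lift_self_elem (f : D →ₐ[K] C) :
    Algebra.TensorProduct.lift f f (fun _ _ => .all _ _) (Algebra.FormallyUnramified.elem K D) = 1 := by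
  have : Algebra.TensorProduct.lift f f (fun _ _ => .all _ _) = f.comp (Algebra.TensorProduct.lmul' K) :=
    Algebra.TensorProduct.ext (AlgHom.ext fun x => by simp) (AlgHom.ext fun x => by simp)
  rw [this, AlgHom.comp_apply, Algebra.FormallyUnramified.lmul_elem, map_one]

variable {E : Type u} [CommRing E] [Algebra E C] {τ : E}

theorem isUnit_one_add_small (hτ : Ideal.span {τ} ≤ Ideal.jacobson ⊥) {δ : C} (c : E)
    (h : δ - 1 = algebraMap E C (τ * c)) : IsUnit δ := by
  rw [show δ = algebraMap E C (τ * c * 1 + 1) by rw [mul_one, map_add, map_one, ← h, sub_add_cancel]]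
  exact (Ideal.mem_jacobson_bot.1 (hτ (Ideal.mul_mem_right c _ (Ideal.mem_span_singleton_self τ))) 1).map _

theorem exists_order [IsLocalization.Away τ C] (hτ : Ideal.span {τ} ≤ Ideal.jacobson ⊥) (f : D →ₐ[K] C) :
    ∃ (p r : ℕ) (y : Fin r → D), ∀ g : D →ₐ[K] C, (∀ j, ∃ c : E, f (y j) - g (y j) = algebraMap E C (τ ^ p * c)) → f = g := by
  classical
  obtain ⟨S, hS⟩ := TensorProduct.exists_finset (R := K) (Algebra.FormallyUnramified.elem K D)
  choose k a ha using fun i : D × D => IsLocalization.Away.surj (S := C) τ (f i.1)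
  let P := ∑ i ∈ S, k i
  let e := S.equivFin
  refine ⟨P + 1, S.card, fun j => ((e.symm j : D × D)).2, fun g hg => eq_of_isUnit f g ?_⟩
  choose c hc using hg
  refine isUnit_one_add_small hτ (-∑ i : S, τ ^ (P - k i) * a i * c (e i)) ?_
  rw [← lift_self_elem f, hS, map_sum, map_sum, ← Finset.sum_sub_distrib, ← Finset.sum_attach S, mul_neg, map_neg,
    Finset.mul_sum, map_sum, ← Finset.sum_neg_distrib]
  refine Finset.sum_congr rfl fun i _ => ?_
  have h1 := hc (e i)
  simp only [Equiv.symm_apply_apply] at h1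
  obtain ⟨q, hq⟩ := Nat.exists_eq_add_of_le (Finset.single_le_sum (fun i _ => Nat.zero_le (k i)) i.2)
  rw [Algebra.TensorProduct.lift_tmul, Algebra.TensorProduct.lift_tmul, ← mul_sub,
    show g (i : D × D).2 - f (i : D × D).2 = -(f (i : D × D).2 - g (i : D × D).2) from (neg_sub _ _).symm, h1,
    show P + 1 = k i + (q + 1) by omega, show P - k i = q by omega, pow_add]
  simp only [map_mul, map_pow, ← ha]
  ring

theorem eq_of_comp_eq [IsLocalization.Away τ C] (hτ : Ideal.span {τ} ≤ Ideal.jacobson ⊥)
    {E' C' : Type u} [CommRing E'] [CommRing C'] [Algebra E' C'] (φ : E →+* E') [IsLocalization.Away (φ τ) C']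
    (ψ : C →+* C') (hψ : ∀ a, ψ (algebraMap E C a) = algebraMap E' C' (φ a))
    (hinj : ∀ (M : ℕ) x, φ x ∈ Ideal.span {φ τ ^ M} → x ∈ Ideal.span {τ ^ M})
    (f g : D →ₐ[K] C) (h : ∀ d, ψ (f d) = ψ (g d)) : f = g := by
  refine eq_of_isUnit f g ?_
  let δ := Algebra.TensorProduct.lift f g (fun _ _ => .all _ _) (Algebra.FormallyUnramified.elem K D)
  obtain ⟨k, a, ha⟩ := IsLocalization.Away.surj (S := C) τ (δ - 1)
  have h1 : ψ (δ - 1) = 0 := by
    have e : ∀ z : D ⊗[K] D, ψ (Algebra.TensorProduct.lift f g (fun _ _ => .all _ _) z) =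
        ψ (Algebra.TensorProduct.lift f f (fun _ _ => .all _ _) z) := fun z => by
      induction z using TensorProduct.induction_on with
      | zero => simp
      | add x y hx hy => simp only [map_add, hx, hy]
      | tmul x y => rw [Algebra.TensorProduct.lift_tmul, Algebra.TensorProduct.lift_tmul, map_mul, map_mul, h y]
    rw [map_sub, e, lift_self_elem, sub_self]
  have h2 := congrArg ψ ha
  rw [map_mul, h1, zero_mul, hψ] at h2
  obtain ⟨⟨_, m, rfl⟩, hm⟩ := (IsLocalization.map_eq_zero_iff (Submonoid.powers (φ τ)) C' _).1 h2.symm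
  change φ τ ^ m * φ a = 0 at hm
  obtain ⟨c, hc⟩ := Ideal.mem_span_singleton.1 (hinj (m + (k + 1)) (τ ^ m * a) (by rw [map_mul, map_pow, hm]; exact Ideal.zero_mem _))
  refine isUnit_one_add_small hτ c (((IsLocalization.Away.algebraMap_isUnit (S := C) τ).pow (m + k)).mul_left_cancel ?_)
  have h3 := congrArg (algebraMap E C) hc
  simp only [map_mul, map_pow, pow_add, pow_one] at h3 ⊢
  linear_combination h3 + (algebraMap E C τ) ^ m * ha

end Groth.Agent.H9Elkik
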