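import Groth.Agent.H9Elkik.Section
import Groth.Agent.H9Elkik.Rigid
import Groth.Agent.H9Elkik.Model

/-!
# Homomorphisms of finite étale algebras over `A[1/t]` and over `A'[1/t]`
-/

set_option autoImplicit false
set_option linter.style.haveILetI false

universe u

open TensorProduct

namespace Groth.Agent.H9Elkik

variable {A : Type u} [CommRing A] {t : A} {At : Type u} [CommRing At] [Algebra A At] [IsLocalization.Away t At]
  {A' : Type u} [CommRing A']

theorem existsUnique_point [HenselianRing A (Ideal.span {t})] (φ : A →+* A')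
    {A't : Type u} [CommRing A't] [Algebra A' A't] [IsLocalization.Away (φ t) A't]
    (ψ : At →+* A't) (hψ : ∀ a, ψ (algebraMap A At a) = algebraMap A' A't (φ a)) (h : Approx t φ)
    (hjac : Ideal.span {φ t} ≤ Ideal.jacobson ⊥)
    {D : Type u} [CommRing D] [Algebra At D] [Algebra.Etale At D] (σ : D →+* A't)
    (hσ : ∀ z, σ (algebraMap At D z) = ψ z) : ∃! τ : D →ₐ[At] At, ∀ d, ψ (τ d) = σ d := by
  letI : Algebra At A't := ψ.toAlgebra
  let f : D →ₐ[At] A't := { σ with commutes' := hσ }
  obtain ⟨p, r, y, hy⟩ := exists_order (τ := φ t) hjac f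
  obtain ⟨τ, hτ⟩ := exists_section φ ψ hψ h.inj h.surj σ hσ p y
  have e := hy ((Algebra.ofId At A't).comp τ) hτ
  refine ⟨τ, fun d => (DFunLike.congr_fun e d).symm, fun τ' hτ' => ?_⟩
  exact eq_of_comp_eq (τ := t) (HenselianRing.jac (I := Ideal.span {t})) φ ψ hψ h.inj τ' τ fun d =>
    (hτ' d).trans (DFunLike.congr_fun e d)

theorem isLocalization_tensor [Algebra A A'] {A't : Type u} [CommRing A't] [Algebra A' A't]
    [IsLocalization.Away (algebraMap A A' t) A't] [Algebra At A't] [Algebra A A't] [IsScalarTower A A' A't]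
    [IsScalarTower A At A't] {E₀ : Type u} [CommRing E₀] [Algebra A E₀] {C : Type u} [CommRing C] [Algebra E₀ C]
    [Algebra At C] [Algebra A C] [IsScalarTower A E₀ C] [IsScalarTower A At C]
    [IsLocalization.Away (algebraMap A E₀ t) C] :
    ∃ μ : A' ⊗[A] E₀ →+* A't ⊗[At] C,
      (∀ e, μ ((1 : A') ⊗ₜ e) = (1 : A't) ⊗ₜ algebraMap E₀ C e) ∧
      @IsLocalization.Away (A' ⊗[A] E₀) _ ((1 : A') ⊗ₜ algebraMap A E₀ t) (A't ⊗[At] C) _ μ.toAlgebra := by
  let T := A't ⊗[At] C
  let μ : A' ⊗[A] E₀ →ₐ[A] T := Algebra.TensorProduct.lift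
    ((Algebra.TensorProduct.includeLeft : A't →ₐ[A] T).comp (IsScalarTower.toAlgHom A A' A't))
    (((Algebra.TensorProduct.includeRight : C →ₐ[At] T).restrictScalars A).comp (IsScalarTower.toAlgHom A E₀ C))
    fun _ _ => .all _ _
  refine ⟨μ.toRingHom, fun e => ?_, ?_⟩
  · show μ _ = _
    rw [Algebra.TensorProduct.lift_tmul, map_one, one_mul]
    rfl
  let w : A' ⊗[A] E₀ := (1 : A') ⊗ₜ algebraMap A E₀ t
  let L := Localization.Away w
  letI algT : Algebra (A' ⊗[A] E₀) T := μ.toRingHom.toAlgebra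
  have hw : IsUnit (μ w) := by
    have e : w = algebraMap A (A' ⊗[A] E₀) t :=
      ((Algebra.TensorProduct.includeRight : E₀ →ₐ[A] A' ⊗[A] E₀).commutes t)
    rw [e, μ.commutes, IsScalarTower.algebraMap_apply A At T]
    exact (IsLocalization.Away.algebraMap_isUnit t).map _
  let f : L →+* T := IsLocalization.Away.lift w hw
  have hf : ∀ z, f (algebraMap _ L z) = μ z := fun z => IsLocalization.Away.lift_eq w hw z
  let i₁ : A' →+* L := (algebraMap (A' ⊗[A] E₀) L).comp Algebra.TensorProduct.includeLeftRingHom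
  let i₂ : E₀ →+* L := (algebraMap (A' ⊗[A] E₀) L).comp
    (Algebra.TensorProduct.includeRight : E₀ →ₐ[A] A' ⊗[A] E₀).toRingHom
  have hwL : IsUnit (algebraMap (A' ⊗[A] E₀) L w) := IsLocalization.Away.algebraMap_isUnit w
  have hi₁ : IsUnit (i₁ (algebraMap A A' t)) := by
    show IsUnit (algebraMap _ L (algebraMap A A' t ⊗ₜ[A] (1 : E₀)))
    rw [show algebraMap A A' t ⊗ₜ[A] (1 : E₀) = w from
      (Algebra.TensorProduct.tmul_one_eq_one_tmul t)]
    exact hwL
  let g₁ : A't →+* L := IsLocalization.Away.lift (algebraMap A A' t) hi₁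
  let g₂ : C →+* L := IsLocalization.Away.lift (algebraMap A E₀ t) (g := i₂) hwL
  have hg₁ : ∀ a, g₁ (algebraMap A' A't a) = i₁ a := fun a => IsLocalization.Away.lift_eq _ hi₁ a
  have hg₂ : ∀ a, g₂ (algebraMap E₀ C a) = i₂ a := fun a => IsLocalization.Away.lift_eq _ _ a
  letI : Algebra At L := (g₁.comp (algebraMap At A't)).toAlgebra
  have hg : ∀ z, g₂ (algebraMap At C z) = g₁ (algebraMap At A't z) := by
    have e : g₂.comp (algebraMap At C) = g₁.comp (algebraMap At A't) :=
      IsLocalization.ringHom_ext (Submonoid.powers t) (RingHom.ext fun a => by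
        simp only [RingHom.comp_apply, ← IsScalarTower.algebraMap_apply A At C, ← IsScalarTower.algebraMap_apply A At A't]
        rw [IsScalarTower.algebraMap_apply A E₀ C, IsScalarTower.algebraMap_apply A A' A't, hg₁, hg₂]
        exact congrArg (algebraMap (A' ⊗[A] E₀) L) (Algebra.TensorProduct.tmul_one_eq_one_tmul a).symm)
    exact fun z => RingHom.congr_fun e z
  let g : T →ₐ[At] L := Algebra.TensorProduct.lift { g₁ with commutes' := fun _ => rfl }
    { g₂ with commutes' := hg } fun _ _ => .all _ _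
  have hgμ : ∀ z, g (μ z) = algebraMap _ L z := fun z => by
    induction z using TensorProduct.induction_on with
    | zero => simp
    | add x y hx hy => simp only [map_add, hx, hy]
    | tmul a e =>
      rw [Algebra.TensorProduct.lift_tmul, map_mul]
      show g (algebraMap A' A't a ⊗ₜ[At] (1 : C)) * g ((1 : A't) ⊗ₜ[At] algebraMap E₀ C e) = _
      rw [Algebra.TensorProduct.lift_tmul, Algebra.TensorProduct.lift_tmul, map_one, map_one, mul_one, one_mul]
      show g₁ (algebraMap A' A't a) * g₂ (algebraMap E₀ C e) = _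
      rw [hg₁, hg₂]
      show algebraMap _ L (a ⊗ₜ[A] (1 : E₀)) * algebraMap _ L ((1 : A') ⊗ₜ[A] e) = _
      rw [← map_mul, Algebra.TensorProduct.tmul_mul_tmul, mul_one, one_mul]
  have hfg : ∀ z, f (g z) = z := by
    have e1 : ∀ x, f (g₁ x) = x ⊗ₜ[At] (1 : C) := by
      have : f.comp g₁ = Algebra.TensorProduct.includeLeftRingHom :=
        IsLocalization.ringHom_ext (Submonoid.powers (algebraMap A A' t)) (RingHom.ext fun a => by
          rw [RingHom.comp_apply, RingHom.comp_apply, RingHom.comp_apply, hg₁]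
          show f (algebraMap _ L (a ⊗ₜ[A] (1 : E₀))) = _
          rw [hf, Algebra.TensorProduct.lift_tmul, map_one, mul_one]
          rfl)
      exact fun x => RingHom.congr_fun this x
    have e2 : ∀ x, f (g₂ x) = (1 : A't) ⊗ₜ[At] x := by
      have : f.comp g₂ = (Algebra.TensorProduct.includeRight : C →ₐ[At] T).toRingHom :=
        IsLocalization.ringHom_ext (Submonoid.powers (algebraMap A E₀ t)) (RingHom.ext fun a => by
          rw [RingHom.comp_apply, RingHom.comp_apply, RingHom.comp_apply, hg₂]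
          show f (algebraMap _ L ((1 : A') ⊗ₜ[A] a)) = _
          rw [hf, Algebra.TensorProduct.lift_tmul, map_one, one_mul]
          rfl)
      exact fun x => RingHom.congr_fun this x
    intro z
    induction z using TensorProduct.induction_on with
    | zero => simp
    | add x y hx hy => simp only [map_add, hx, hy]
    | tmul x y =>
      show f (g (x ⊗ₜ[At] y)) = _
      rw [Algebra.TensorProduct.lift_tmul, map_mul]
      show f (g₁ x) * f (g₂ y) = _
      rw [e1, e2, Algebra.TensorProduct.tmul_mul_tmul, mul_one, one_mul]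
  have hgf : g.toRingHom.comp f = RingHom.id L :=
    IsLocalization.ringHom_ext (Submonoid.powers w) (RingHom.ext fun z => by
      show g (f (algebraMap _ L z)) = algebraMap _ L z
      rw [hf, hgμ])
  let e : L ≃ₐ[A' ⊗[A] E₀] T :=
    AlgEquiv.ofBijective { f with commutes' := hf }
      ⟨Function.LeftInverse.injective (g := g) (RingHom.congr_fun hgf), fun z => ⟨g z, hfg z⟩⟩
  exact IsLocalization.isLocalization_of_algEquiv _ e

theorem existsUnique_algHom [HenselianRing A (Ideal.span {t})] [Algebra A A'] {A't : Type u} [CommRing A't]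
    [Algebra A' A't] [IsLocalization.Away (algebraMap A A' t) A't] [Algebra At A't] [Algebra A A't]
    [IsScalarTower A A' A't] [IsScalarTower A At A't] (h : Approx t (algebraMap A A'))
    (hjac : Ideal.span {algebraMap A A' t} ≤ Ideal.jacobson ⊥)
    {C D : Type u} [CommRing C] [CommRing D] [Algebra At C] [Module.Finite At C] [Algebra At D] [Algebra.Etale At D]
    (σ : D →ₐ[At] A't ⊗[At] C) : ∃! τ : D →ₐ[At] C, ∀ d, (1 : A't) ⊗ₜ[At] τ d = σ d := by
  letI : Algebra A C := ((algebraMap At C).comp (algebraMap A At)).toAlgebra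
  haveI : IsScalarTower A At C := IsScalarTower.of_algebraMap_eq fun _ => rfl
  obtain ⟨E₀, hfin, hloc⟩ := exists_model (t := t) C (At := At)
  haveI := hfin
  haveI := hloc
  haveI : Algebra.IsIntegral A E₀ := Algebra.IsIntegral.of_finite A E₀
  haveI : HenselianRing E₀ (Ideal.span {algebraMap A E₀ t}) := by
    have h := Hensel.henselianRing_of_isIntegral' (Ideal.span {t}) E₀
    rwa [Ideal.map_span, Set.image_singleton] at h
  obtain ⟨μ, hμ, hμloc⟩ := isLocalization_tensor (t := t) (At := At) (A' := A') (A't := A't) (E₀ := E₀) (C := C)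
  letI : Algebra (A' ⊗[A] E₀) (A't ⊗[At] C) := μ.toAlgebra
  haveI : IsLocalization.Away ((Algebra.TensorProduct.includeRight : E₀ →ₐ[A] A' ⊗[A] E₀).toRingHom (algebraMap A E₀ t))
      (A't ⊗[At] C) := hμloc
  let ψC : C →+* A't ⊗[At] C := (Algebra.TensorProduct.includeRight : C →ₐ[At] A't ⊗[At] C).toRingHom
  let D' := C ⊗[At] D
  let σ' : D' →ₐ[At] A't ⊗[At] C := Algebra.TensorProduct.lift
    (Algebra.TensorProduct.includeRight : C →ₐ[At] A't ⊗[At] C) σ fun _ _ => .all _ _
  obtain ⟨τ', hτ', huniq⟩ := existsUnique_point (t := algebraMap A E₀ t) (At := C)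
    ((Algebra.TensorProduct.includeRight : E₀ →ₐ[A] A' ⊗[A] E₀).toRingHom) ψC (fun a => (hμ a).symm)
    (approx_tensor E₀ h) (jac_tensor E₀ hjac) σ'.toRingHom (D := D') (fun z => by
      show σ' (z ⊗ₜ[At] (1 : D)) = _
      rw [Algebra.TensorProduct.lift_tmul, map_one, mul_one]
      rfl)
  let τ : D →ₐ[At] C := (τ'.restrictScalars At).comp Algebra.TensorProduct.includeRight
  refine ⟨τ, fun d => (hτ' ((1 : C) ⊗ₜ d)).trans ((Algebra.TensorProduct.lift_tmul ..).trans (by rw [map_one, one_mul])), fun τ₁ h₁ => ?_⟩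
  let τ₁' : D' →ₐ[C] C := Algebra.TensorProduct.lift (AlgHom.id C C) τ₁ fun _ _ => .all _ _
  have e : τ₁' = τ' := huniq τ₁' fun z => by
    induction z using TensorProduct.induction_on with
    | zero => simp
    | add x y hx hy => simp only [map_add, hx, hy]
    | tmul c d =>
      show ψC (τ₁' (c ⊗ₜ[At] d)) = σ' (c ⊗ₜ[At] d)
      rw [Algebra.TensorProduct.lift_tmul, map_mul, Algebra.TensorProduct.lift_tmul]
      exact congrArg (ψC c * ·) (h₁ d)
  refine AlgHom.ext fun d => ?_
  show τ₁ d = τ' ((1 : C) ⊗ₜ d)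
  rw [← e, Algebra.TensorProduct.lift_tmul, map_one, one_mul]

end Groth.Agent.H9Elkik
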