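import Groth.Agent.H9Elkik.Descend

/-!
# Integral square presentations of finite étale algebras, and descent
-/

set_option autoImplicit false
set_option linter.style.haveILetI false

universe u

open MvPolynomial TensorProduct

noncomputable section

namespace Groth.Agent.H9Elkik

theorem exists_square (R S : Type u) [CommRing R] [CommRing S] [Algebra R S] [Algebra.Etale R S] :
    ∃ (n : ℕ) (val : Fin n → S) (r : Fin n → MvPolynomial (Fin n) R),
      Function.Surjective (aeval (R := R) val) ∧ RingHom.ker (aeval (R := R) val) = Ideal.span (Set.range r) ∧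
        IsUnit (aeval val (jdet r)) := by
  classical
  obtain ⟨ι, σ, _, _, P, hdim⟩ :=
    (Algebra.Etale.iff_isStandardSmoothOfRelativeDimension_zero.1 ‹Algebra.Etale R S›).out
  cases nonempty_fintype σ
  cases nonempty_fintype ι
  have hbij : Function.Bijective P.map := P.map_inj.bijective_of_nat_card_le (by
    simp only [Algebra.Presentation.dimension] at hdim
    omega)
  let e : Fin (Fintype.card σ) ≃ σ := (Fintype.equivFin σ).symm
  let Q := P.reindex (e.trans (Equiv.ofBijective P.map hbij)) e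
  have hmap : ∀ i, Q.map i = i := fun i => by
    show (e.trans (Equiv.ofBijective P.map hbij)).symm (P.map (e i)) = i
    rw [Equiv.symm_apply_eq]
    rfl
  refine ⟨Fintype.card σ, Q.val, Q.relation, fun s => ⟨Q.σ s, Q.aeval_val_σ s⟩, ?_, ?_⟩
  · rw [← Q.ker_eq_ker_aeval_val, Q.span_range_relation_eq_ker]
  · have h := Q.jacobian_isUnit
    rw [Q.jacobian_eq_jacobiMatrix_det, Q.algebraMap_eq] at h
    have e1 : jdet Q.relation = Q.jacobiMatrix.det := by
      rw [jdet]
      congr 1
      ext i j : 1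
      rw [Algebra.PreSubmersivePresentation.jacobiMatrix_apply, hmap]
      rfl
    rw [e1]
    exact h

section Exact

variable {A' : Type u} [CommRing A'] {τ : A'} {A't : Type u} [CommRing A't] [Algebra A' A't]
  [IsLocalization.Away τ A't] {n : ℕ}

theorem exists_clear_span (g : Fin n → MvPolynomial (Fin n) A') {z : MvPolynomial (Fin n) A'}
    (hz : MvPolynomial.map (algebraMap A' A't) z ∈
      Ideal.span (Set.range fun j => MvPolynomial.map (algebraMap A' A't) (g j))) :
    ∃ (s : ℕ) (c : Fin n → MvPolynomial (Fin n) A'), C τ ^ s * z = ∑ j, c j * g j := by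
  classical
  obtain ⟨c, hc⟩ := (Submodule.mem_span_range_iff_exists_fun _).1 hz
  choose e c₀ hc₀ using fun j => exists_clear_poly (A := A') (t := τ) (c j)
  let N := ∑ j, e j
  let D := C τ ^ N * z - ∑ j, C τ ^ (N - e j) * c₀ j * g j
  have hD : MvPolynomial.map (algebraMap A' A't) D = 0 := by
    simp only [D, map_sub, map_mul, map_pow, map_C, map_sum]
    rw [← hc, Finset.mul_sum, ← Finset.sum_sub_distrib]
    refine Finset.sum_eq_zero fun j _ => ?_
    rw [← hc₀ j, smul_eq_mul, sub_eq_zero, ← mul_assoc, ← mul_assoc, ← pow_add,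
      Nat.sub_add_cancel (Finset.single_le_sum (fun i _ => Nat.zero_le (e i)) (Finset.mem_univ j))]
  have hk : ∀ k, ∃ s : ℕ, τ ^ s * D.coeff k = 0 := fun k => by
    have h := congrArg (coeff k) hD
    rw [coeff_map, coeff_zero] at h
    obtain ⟨⟨_, s, rfl⟩, hs⟩ := (IsLocalization.map_eq_zero_iff (Submonoid.powers τ) A't _).1 h
    exact ⟨s, hs⟩
  choose s hs using hk
  let S := ∑ k ∈ D.support, s k
  have hS : C τ ^ S * D = 0 := by
    ext k
    rw [← map_pow, coeff_C_mul, coeff_zero]
    by_cases hk : k ∈ D.support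
    · obtain ⟨q, hq⟩ := Nat.exists_eq_add_of_le (Finset.single_le_sum (fun i _ => Nat.zero_le (s i)) hk)
      rw [show S = s k + q from hq, pow_add, mul_comm (τ ^ s k), mul_assoc, hs, mul_zero]
    · rw [notMem_support_iff.1 hk, mul_zero]
  refine ⟨S + N, fun j => C τ ^ S * (C τ ^ (N - e j) * c₀ j), ?_⟩
  have e1 : ∑ j, C τ ^ S * (C τ ^ (N - e j) * c₀ j) * g j = C τ ^ S * ∑ j, C τ ^ (N - e j) * c₀ j * g j := by
    rw [Finset.mul_sum]
    exact Finset.sum_congr rfl fun j _ => by ring
  rw [e1, pow_add]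
  simp only [D, mul_sub] at hS
  linear_combination hS

variable (τ) in
theorem exists_exact (C' : Type u) [CommRing C'] [Algebra A't C'] [Module.Finite A't C'] [Algebra.Etale A't C'] :
    ∃ (n m : ℕ) (g : Fin n → MvPolynomial (Fin n) A') (ζ : MvPolynomial (Fin n) A')
      (c : Fin n → MvPolynomial (Fin n) A') (P : Fin n → Polynomial A') (a : Fin n → Fin n → MvPolynomial (Fin n) A'),
      C τ ^ m = ζ * jdet g + ∑ j, c j * g j ∧ (∀ i, (P i).Monic) ∧
      (∀ i, C τ ^ m * Polynomial.aeval (X i) (P i) = ∑ j, a i j * g j) ∧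
      ∃ (_ : Algebra A' C') (_ : IsScalarTower A' A't C') (x : Fin n → C'), IsRootAlg τ A't g C' x := by
  classical
  letI : Algebra A' C' := ((algebraMap A't C').comp (algebraMap A' A't)).toAlgebra
  haveI : IsScalarTower A' A't C' := IsScalarTower.of_algebraMap_eq fun _ => rfl
  obtain ⟨n, val, r, hsurj, hker, hdet⟩ := exists_square A't C'
  have hint : ∀ i, ∃ k : ℕ, IsIntegral A' (algebraMap A' C' τ ^ k * val i) := fun i => by
    obtain ⟨⟨_, k, rfl⟩, hk⟩ := IsIntegral.exists_multiple_integral_of_isLocalization (Submonoid.powers τ) (Rₘ := A't)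
      (val i) (Algebra.IsIntegral.isIntegral (R := A't) (val i))
    refine ⟨k, ?_⟩
    rw [← map_pow, ← Algebra.smul_def]
    exact hk
  choose k hk using hint
  choose P hP hPx using hk
  let T : A't := algebraMap A' A't τ
  obtain ⟨T', hT⟩ := (IsLocalization.Away.algebraMap_isUnit (S := A't) τ).exists_left_inv
  have hT : T' * T = 1 := hT
  let x : Fin n → C' := fun i => algebraMap A' C' τ ^ k i * val i
  let θ : MvPolynomial (Fin n) A't →ₐ[A't] MvPolynomial (Fin n) A't := aeval fun i => C (T' ^ k i) * X i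
  let θ' : MvPolynomial (Fin n) A't →ₐ[A't] MvPolynomial (Fin n) A't := aeval fun i => C (T ^ k i) * X i
  have hθx : ∀ p, aeval x (θ p) = aeval val p := fun p => by
    rw [← AlgHom.comp_apply, comp_aeval]
    refine congrArg (fun f => aeval f p) (funext fun i => ?_)
    rw [map_mul, aeval_C, aeval_X, show x i = algebraMap A' C' τ ^ k i * val i from rfl, ← mul_assoc,
      IsScalarTower.algebraMap_apply A' A't C', ← map_pow, ← map_mul, ← mul_pow, hT, one_pow, map_one, one_mul]
  have hθ'x : ∀ p, aeval val (θ' p) = aeval x p := fun p => by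
    rw [← AlgHom.comp_apply, comp_aeval]
    refine congrArg (fun f => aeval f p) (funext fun i => ?_)
    rw [map_mul, aeval_C, aeval_X, map_pow]
    rfl
  have hθθ' : ∀ p, θ (θ' p) = p := fun p => by
    rw [← AlgHom.comp_apply, comp_aeval, show (fun i => θ (C (T ^ k i) * X i)) = (X : Fin n → MvPolynomial (Fin n) A't) from
      funext fun i => by rw [map_mul, aeval_C, aeval_X, algebraMap_eq, ← mul_assoc, ← map_mul, ← mul_pow, mul_comm T, hT,
        one_pow, map_one, one_mul], aeval_X_left_apply]
  have hpd : ∀ i p, pderiv i (θ p) = C (T' ^ k i) * θ (pderiv i p) := fun i p => by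
    induction p using MvPolynomial.induction_on with
    | C r => simp [θ]
    | add p q hp hq => simp only [map_add, hp, hq, mul_add]
    | mul_X p l hp =>
      rw [map_mul, Derivation.leibniz, hp, aeval_X, Derivation.leibniz, pderiv_C, smul_zero, add_zero,
        Derivation.leibniz, smul_eq_mul, smul_eq_mul, smul_eq_mul, smul_eq_mul, smul_eq_mul, map_add, map_mul, map_mul]
      by_cases h : l = i
      · subst h
        simp only [pderiv_X_self, map_one, θ, aeval_X]
        ring
      · simp only [pderiv_X_of_ne h, map_zero, θ, aeval_X]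
        ring
  choose e g hg using fun j => exists_clear_poly (A := A') (t := τ) (θ (r j))
  let G : Fin n → MvPolynomial (Fin n) A't := fun j => MvPolynomial.map (algebraMap A' A't) (g j)
  have hG : ∀ j, G j = C T ^ e j * θ (r j) := fun j => (hg j).symm
  have hxsurj : Function.Surjective (aeval (R := A't) x) := fun s => by
    obtain ⟨p, rfl⟩ := hsurj s
    exact ⟨θ p, hθx p⟩
  have hxker : ∀ p, aeval x p = 0 → p ∈ Ideal.span (Set.range G) := fun p hp => by
    have h1 : θ' p ∈ Ideal.span (Set.range r) := by rw [← hker, RingHom.mem_ker, hθ'x, hp]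
    have h2 := Ideal.mem_map_of_mem θ h1
    rw [hθθ', Ideal.map_span] at h2
    refine Ideal.span_le.2 ?_ h2
    rintro _ ⟨_, ⟨j, rfl⟩, rfl⟩
    have h3 : θ (r j) = C T' ^ e j * G j := by
      rw [hG, ← mul_assoc, ← mul_pow, ← map_mul, hT, map_one, one_pow, one_mul]
    rw [h3]
    exact Ideal.mul_mem_left _ _ (Ideal.subset_span ⟨j, rfl⟩)
  have hGx : ∀ j, aeval x (G j) = 0 := fun j => by
    have h0 : aeval val (r j) = 0 := by
      rw [← RingHom.mem_ker, hker]
      exact Ideal.subset_span ⟨j, rfl⟩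
    rw [hG, map_mul, hθx, h0, mul_zero]
  have hunit : IsUnit (aeval x (jdet G)) := by
    rw [jdet, AlgHom.map_det]
    rw [jdet, AlgHom.map_det] at hdet
    have hM : (aeval x).mapMatrix (Matrix.of fun i j => pderiv i (G j)) =
        Matrix.of fun i j => algebraMap A't C' (T' ^ k i) * (Matrix.of fun i j => algebraMap A't C' (T ^ e j) *
          ((aeval val).mapMatrix (Matrix.of fun i j => pderiv i (r j))) i j) i j := by
      ext i j
      simp only [AlgHom.mapMatrix_apply, Matrix.map_apply, Matrix.of_apply]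
      rw [hG, Derivation.leibniz, ← map_pow, pderiv_C, smul_zero, add_zero, smul_eq_mul, hpd, map_mul, map_mul, aeval_C,
        aeval_C, hθx]
      ring
    rw [hM, Matrix.det_mul_column, Matrix.det_mul_row]
    have hTu : IsUnit T ∧ IsUnit T' := ⟨isUnit_of_mul_isUnit_right (hT ▸ isUnit_one), isUnit_of_mul_isUnit_left (hT ▸ isUnit_one)⟩
    exact (IsUnit.prod_iff.2 fun i _ => (hTu.2.pow _).map _).mul ((IsUnit.prod_iff.2 fun i _ => (hTu.1.pow _).map _).mul hdet)
  obtain ⟨inv, hinv⟩ := hunit.exists_left_inv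
  obtain ⟨ζ', hζ'⟩ := hxsurj inv
  obtain ⟨eζ, ζ₀, hζ₀⟩ := exists_clear_poly (A := A') (t := τ) ζ'
  obtain ⟨s, c, hc⟩ := exists_clear_span (A't := A't) (τ := τ) g (z := C τ ^ eζ - ζ₀ * jdet g) (hxker _ (by
    rw [map_sub, map_pow, map_C, map_mul, map_jdet, ← hζ₀, map_sub, map_pow, aeval_C, map_mul, map_mul, map_pow,
      aeval_C, hζ', mul_assoc, hinv, mul_one, sub_self]))
  choose s' a ha using fun i => exists_clear_span (A't := A't) (τ := τ) g (z := Polynomial.aeval (X i) (P i))
    (hxker _ (by
      rw [aeval_map_algebraMap, ← Polynomial.aeval_algHom_apply, aeval_X]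
      exact hPx i))
  let S := ∑ i, s' i
  refine ⟨n, s + eζ + S, g, C τ ^ S * (C τ ^ s * ζ₀), fun j => C τ ^ S * c j, P,
    fun i j => C τ ^ (s + eζ + S - s' i) * a i j, ?_, hP, fun i => ?_, inferInstance, inferInstance, x,
    fun i => ⟨P i, hP i, hPx i⟩, fun l => ?_, ?_, ?_⟩
  · have e1 : ∑ j, C τ ^ S * c j * g j = C τ ^ S * ∑ j, c j * g j := by
      rw [Finset.mul_sum]; exact Finset.sum_congr rfl fun j _ => by ring
    rw [e1, pow_add, pow_add]
    linear_combination (C τ ^ S) * hc
  · have e1 : ∑ j, C τ ^ (s + eζ + S - s' i) * a i j * g j = C τ ^ (s + eζ + S - s' i) * ∑ j, a i j * g j := by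
      rw [Finset.mul_sum]; exact Finset.sum_congr rfl fun j _ => by ring
    rw [e1, ← ha i, ← mul_assoc, ← pow_add, Nat.sub_add_cancel
      ((Finset.single_le_sum (fun i _ => Nat.zero_le (s' i)) (Finset.mem_univ i)).trans (Nat.le_add_left _ _))]
  · rw [← aeval_map_algebraMap A't]
    exact hGx l
  · intro D _ _ f h hfh
    refine AlgHom.ext fun z => ?_
    obtain ⟨p, rfl⟩ := hxsurj z
    exact DFunLike.congr_fun (algHom_ext (f := f.comp (aeval x)) (g := h.comp (aeval x)) fun i => by
      simpa using hfh i) p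
  · intro D _ _ _ _ E _ y hy
    let yD : Fin n → D := fun i => (y i : D)
    have hker' : ∀ p, aeval x p = 0 → aeval yD p = 0 := fun p hp => by
      refine (Ideal.span_le.2 ?_ : Ideal.span (Set.range G) ≤ RingHom.ker (aeval (R := A't) yD)) (hxker p hp)
      rintro _ ⟨l, rfl⟩
      rw [SetLike.mem_coe, RingHom.mem_ker, aeval_map_algebraMap,
        show aeval yD (g l) = ((aeval y (g l) : E) : D) from aeval_algebraMap_apply (B := D) y _, hy]
      rfl
    let q : (MvPolynomial (Fin n) A't ⧸ RingHom.ker (aeval (R := A't) x)) →ₐ[A't] D :=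
      Ideal.Quotient.liftₐ _ (aeval yD) hker'
    refine ⟨q.comp (Ideal.quotientKerAlgEquivOfSurjective hxsurj).symm.toAlgHom, fun i => ?_⟩
    have h1 : (Ideal.quotientKerAlgEquivOfSurjective hxsurj).symm (x i) = Ideal.Quotient.mk _ (X i) :=
      (Ideal.quotientKerAlgEquivOfSurjective hxsurj).symm_apply_eq.2 (aeval_X x i).symm
    show q ((Ideal.quotientKerAlgEquivOfSurjective hxsurj).symm (x i)) = _
    rw [h1]
    exact aeval_X yD i

end Exact

/-- Finite étale algebras over `A'[1/t]` descend to `A[1/t]`. -/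
theorem exists_descended {A : Type u} [CommRing A] {t : A} [HenselianRing A (Ideal.span {t})]
    {At : Type u} [CommRing At] [Algebra A At] [IsLocalization.Away t At]
    {A' : Type u} [CommRing A'] [Algebra A A'] [HenselianRing A' (Ideal.span {algebraMap A A' t})]
    {A't : Type u} [CommRing A't] [Algebra A' A't] [IsLocalization.Away (algebraMap A A' t) A't] [Algebra At A't]
    [Algebra A A't] [IsScalarTower A A' A't] [IsScalarTower A At A't] (h : Approx t (algebraMap A A'))
    (C' : Type u) [CommRing C'] [Algebra A't C'] [Module.Finite A't C'] [Algebra.Etale A't C'] :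
    ∃ (C₀ : Type u) (_ : CommRing C₀) (_ : Algebra At C₀) (_ : Module.Finite At C₀) (_ : Algebra.Etale At C₀),
      Nonempty (A't ⊗[At] C₀ ≃ₐ[A't] C') := by
  obtain ⟨n, m, g', ζ', c', P', a', hid, hP', hb, iA', _, x', hx'⟩ := exists_exact (algebraMap A A' t) (A't := A't) C'
  obtain ⟨g, hg, hgb, hclose⟩ := exists_approx_system (algebraMap A A') h m g' ζ' c' hid P' hP' a' hb
  obtain ⟨C₀, _, _, _, _, x, hf, he, hx⟩ := exists_rootAlg At g m hg hgb
  refine ⟨C₀, inferInstance, inferInstance, hf, he, ?_⟩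
  exact nonempty_algEquiv (hg.map (algebraMap A A'))
    (⟨ζ', c', 0, by rw [mul_zero, add_zero]; exact hid⟩ : Reg (algebraMap A A' t) g' m) hclose
    (isRootAlg_tensor (A' := A') (A't := A't) hx) hx'

end Groth.Agent.H9Elkik
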