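import Groth.Agent.H9Elkik.Cat
import Groth.Agent.H9Elkik.FF
import Groth.Agent.H9Elkik.Present

/-!
# Finite étale covers of `A[1/t]` and of `A'[1/t]`
-/

set_option autoImplicit false
set_option linter.style.haveILetI false

universe u

open CategoryTheory AlgebraicGeometry TensorProduct

noncomputable section

namespace Groth.Agent.H9Elkik

theorem isEquivalence_fet {A A' At A't : Type u} [CommRing A] [CommRing A'] [CommRing At] [CommRing A't] {t : A}
    [HenselianRing A (Ideal.span {t})] [Algebra A A'] [HenselianRing A' (Ideal.span {algebraMap A A' t})]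
    [Algebra A At] [IsLocalization.Away t At] [Algebra A' A't] [IsLocalization.Away (algebraMap A A' t) A't]
    [Algebra At A't] [Algebra A A't] [IsScalarTower A A' A't] [IsScalarTower A At A't]
    (h : Approx t (algebraMap A A')) :
    (FEt.restrict (Spec.map (CommRingCat.ofHom (algebraMap At A't)))).IsEquivalence :=
  isEquivalence_restrict At A't
    (fun C D _ _ _ _ _ _ _ σ => existsUnique_algHom h (HenselianRing.jac (I := Ideal.span {algebraMap A A' t})) σ)
    (fun C' _ _ _ _ => exists_descended h C')

end Groth.Agent.H9Elkik
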