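import Groth.Agent.Hensel.NoethPair
import Groth.Agent.Hensel.HenselizationProps
import Groth.Agent.Hensel.Henselization
import Mathlib.RingTheory.LaurentSeries
import Groth.Prelude.Def_Hens2

/-!
# The henselization of `R[X]` along `(X)` and power series
-/

set_option autoImplicit false
set_option linter.style.haveILetI false

universe u

open Polynomial

namespace Groth.Agent.H9Elkik

variable {R : Type u} [CommRing R] {B : Type u} [CommRing B] [Algebra R[X] B]
  (hB : Hens2.IsPairHenselization R[X] (Ideal.span {(Polynomial.X : R[X])}) B) (ψ : B →ₐ[R[X]] PowerSeries R)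

include hB in
theorem henz_henselian : HenselianRing B (Ideal.span {algebraMap R[X] B Polynomial.X}) := by
  have := hB.1
  rwa [Ideal.map_span, Set.image_singleton] at this

theorem henz_map_X : ψ (algebraMap R[X] B Polynomial.X) = PowerSeries.X := by
  rw [ψ.commutes]
  exact Polynomial.coe_X

theorem henz_surj (M : ℕ) (s : PowerSeries R) : ∃ a, s - ψ.toRingHom a ∈
    Ideal.span {ψ.toRingHom (algebraMap R[X] B Polynomial.X) ^ M} := by
  refine ⟨algebraMap R[X] B (PowerSeries.trunc M s), ?_⟩
  show s - ψ (algebraMap R[X] B _) ∈ Ideal.span {ψ _ ^ M}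
  rw [henz_map_X, ψ.commutes, Ideal.mem_span_singleton, PowerSeries.X_pow_dvd_iff]
  intro d hd
  rw [map_sub]
  show PowerSeries.coeff d s - PowerSeries.coeff d ((PowerSeries.trunc M s : R[X]) : PowerSeries R) = 0
  rw [Polynomial.coeff_coe, PowerSeries.coeff_trunc, if_pos hd, sub_self]

include hB in
theorem henz_inj (M : ℕ) (x : B)
    (hx : ψ.toRingHom x ∈ Ideal.span {ψ.toRingHom (algebraMap R[X] B Polynomial.X) ^ M}) :
    x ∈ Ideal.span {algebraMap R[X] B Polynomial.X ^ M} := by
  obtain ⟨p, hp⟩ := Hensel.exists_sub_mem_pow _ (Hensel.exists_sub_mem_of_isPairHenselization _ hB) M x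
  rw [Ideal.span_singleton_pow, Ideal.map_span, Set.image_singleton, map_pow] at hp
  have h1 : (p : PowerSeries R) ∈ Ideal.span {(PowerSeries.X : PowerSeries R) ^ M} := by
    have h2 := Ideal.mem_map_of_mem ψ.toRingHom hp
    rw [Ideal.map_span, Set.image_singleton, map_pow, map_sub] at h2
    have h3 := Ideal.sub_mem _ hx h2
    rw [sub_sub_cancel] at h3
    change ψ (algebraMap R[X] B p) ∈ Ideal.span {ψ _ ^ M} at h3
    rw [henz_map_X, ψ.commutes] at h3
    exact h3
  rw [Ideal.mem_span_singleton, PowerSeries.X_pow_dvd_iff] at h1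
  obtain ⟨c, hc⟩ : (Polynomial.X : R[X]) ^ M ∣ p :=
    Polynomial.X_pow_dvd_iff.2 fun d hd => by simpa using h1 d hd
  rw [← sub_add_cancel x (algebraMap R[X] B p)]
  exact Ideal.add_mem _ hp (Ideal.mem_span_singleton.2 ⟨algebraMap R[X] B c, by rw [hc, map_mul, map_pow]⟩)

theorem isLocalization_laurent :
    IsLocalization.Away (ψ.toRingHom (algebraMap R[X] B Polynomial.X)) (LaurentSeries R) := by
  show IsLocalization.Away (ψ (algebraMap R[X] B Polynomial.X)) (LaurentSeries R)
  rw [henz_map_X]
  exact LaurentSeries.of_powerSeries_localization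

end Groth.Agent.H9Elkik
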