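import Groth.Agent.H9Elkik.Model
import Mathlib.LinearAlgebra.Matrix.NonsingularInverse

/-!
# Small matrices over `A[1/t]`
-/

set_option autoImplicit false
set_option linter.style.haveILetI false

universe u

noncomputable section

namespace Groth.Agent.H9Elkik

variable {A : Type u} [CommRing A] (t : A) {At : Type u} [CommRing At] [Algebra A At]

/-- All entries come from multiples of `t ^ Q`. -/
def Small {l m : Type*} (Q : ℕ) (M : Matrix l m At) : Prop :=
  ∀ i j, ∃ c : A, M i j = algebraMap A At (t ^ Q * c)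

variable {t} {l m o : Type*} {Q : ℕ}

theorem Small.add {M N : Matrix l m At} (hM : Small t Q M) (hN : Small t Q N) : Small t Q (M + N) := fun i j => by
  obtain ⟨c, hc⟩ := hM i j
  obtain ⟨d, hd⟩ := hN i j
  exact ⟨c + d, by rw [Matrix.add_apply, hc, hd, ← map_add, mul_add]⟩

theorem Small.neg {M : Matrix l m At} (hM : Small t Q M) : Small t Q (-M) := fun i j => by
  obtain ⟨c, hc⟩ := hM i j
  exact ⟨-c, by rw [Matrix.neg_apply, hc, ← map_neg, mul_neg]⟩

theorem small_sub_symm {M N : Matrix l m At} (h : Small t Q (M - N)) : Small t Q (N - M) := by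
  simpa using h.neg

theorem Small.mono {P : ℕ} (hPQ : Q ≤ P) {M : Matrix l m At} (hM : Small t P M) : Small t Q M := fun i j => by
  obtain ⟨c, hc⟩ := hM i j
  obtain ⟨k, rfl⟩ := Nat.exists_eq_add_of_le hPQ
  exact ⟨t ^ k * c, by rw [hc, pow_add, mul_assoc]⟩

theorem small_sum {ι : Type*} (s : Finset ι) (f : ι → At) (h : ∀ x ∈ s, ∃ c : A, f x = algebraMap A At (t ^ Q * c)) :
    ∃ c : A, ∑ x ∈ s, f x = algebraMap A At (t ^ Q * c) := by
  classical
  induction s using Finset.induction with
  | empty => exact ⟨0, by simp⟩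
  | insert x s hx ih =>
    obtain ⟨c, hc⟩ := ih fun y hy => h y (Finset.mem_insert_of_mem hy)
    obtain ⟨d, hd⟩ := h x (Finset.mem_insert_self x s)
    exact ⟨d + c, by rw [Finset.sum_insert hx, hc, hd, ← map_add, mul_add]⟩

theorem Small.mul_small [Fintype m] {M : Matrix l m At} {N : Matrix m o At} {P : ℕ} (hM : Small t Q M)
    (hN : Small t P N) : Small t Q (M * N) := fun i j => by
  rw [Matrix.mul_apply]
  refine small_sum _ _ fun x _ => ?_
  obtain ⟨c, hc⟩ := hM i x
  obtain ⟨d, hd⟩ := hN x j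
  exact ⟨c * (t ^ P * d), by rw [hc, hd, ← map_mul, mul_assoc (t ^ Q)]⟩

variable [IsLocalization.Away t At]

theorem exists_bound [Finite l] [Finite m] (Z : Matrix l m At) :
    ∃ K : ℕ, ∀ i j, ∃ c : A, algebraMap A At t ^ K * Z i j = algebraMap A At c := by
  classical
  haveI := Fintype.ofFinite l
  haveI := Fintype.ofFinite m
  choose k a ha using fun x : l × m => IsLocalization.Away.surj (S := At) t (Z x.1 x.2)
  refine ⟨∑ x, k x, fun i j => ?_⟩
  obtain ⟨r, hr⟩ := Nat.exists_eq_add_of_le (Finset.single_le_sum (fun x _ => Nat.zero_le (k x)) (Finset.mem_univ (i, j)))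
  refine ⟨t ^ r * a (i, j), ?_⟩
  rw [show ∑ x, k x = k (i, j) + r from hr, map_mul, map_pow, ← ha, pow_add]
  ring

theorem exists_mul_right [Fintype m] [Finite o] (Z : Matrix m o At) :
    ∃ K : ℕ, ∀ (Q : ℕ) (M : Matrix l m At), Small t (Q + K) M → Small t Q (M * Z) := by
  obtain ⟨K, hK⟩ := exists_bound (t := t) Z
  refine ⟨K, fun Q M hM i j => ?_⟩
  rw [Matrix.mul_apply]
  refine small_sum _ _ fun x _ => ?_
  obtain ⟨c, hc⟩ := hM i x
  obtain ⟨d, hd⟩ := hK x j
  refine ⟨c * d, ?_⟩
  rw [hc, map_mul, map_mul, map_mul, ← hd, map_pow, map_pow, pow_add]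
  ring

theorem exists_mul_left [Fintype l] [Finite o] (Z : Matrix o l At) :
    ∃ K : ℕ, ∀ (Q : ℕ) (M : Matrix l m At), Small t (Q + K) M → Small t Q (Z * M) := by
  obtain ⟨K, hK⟩ := exists_bound (t := t) Z
  refine ⟨K, fun Q M hM i j => ?_⟩
  rw [Matrix.mul_apply]
  refine small_sum _ _ fun x _ => ?_
  obtain ⟨c, hc⟩ := hM x j
  obtain ⟨d, hd⟩ := hK i x
  refine ⟨d * c, ?_⟩
  rw [hc, map_mul, map_mul, map_mul, ← hd, map_pow, map_pow, pow_add]
  ring

/-- Multiplication of matrices is continuous. -/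
theorem exists_mul_approx [Fintype m] [Finite l] [Finite o] (X : Matrix l m At) (Y : Matrix m o At) (Q : ℕ) :
    ∃ P : ℕ, Q ≤ P ∧ ∀ (X' : Matrix l m At) (Y' : Matrix m o At), Small t P (X' - X) → Small t P (Y' - Y) →
      Small t Q (X' * Y' - X * Y) := by
  obtain ⟨K, hK⟩ := exists_mul_right (l := l) (t := t) Y
  obtain ⟨L, hL⟩ := exists_mul_left (m := o) (t := t) X
  refine ⟨Q + (K + L), Nat.le_add_right _ _, fun X' Y' hX hY => ?_⟩
  rw [show X' * Y' - X * Y = (X' - X) * Y + X * (Y' - Y) + (X' - X) * (Y' - Y) by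
    simp only [Matrix.sub_mul, Matrix.mul_sub]; abel]
  exact ((hK Q _ (hX.mono (by omega))).add (hL Q _ (hY.mono (by omega)))).add ((hX.mono (by omega)).mul_small hY)

theorem exists_inverse_small [Fintype m] [DecidableEq m] (hjac : t ∈ Ideal.jacobson (⊥ : Ideal A))
    (hQ : 1 ≤ Q) {M : Matrix m m At} (hM : Small t Q M) :
    ∃ V, V * (1 + M) = 1 ∧ (1 + M) * V = 1 ∧ Small t Q (V - 1) := by
  choose c hc using hM
  let W : Matrix m m A := 1 + t ^ Q • Matrix.of c
  have hW : IsUnit W.det := by
    let π := Ideal.Quotient.mk (Ideal.span {t})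
    have h1 : π W.det = 1 := by
      rw [RingHom.map_det, show π.mapMatrix W = 1 from ?_, Matrix.det_one]
      have ht : π (t ^ Q) = 0 := Ideal.Quotient.eq_zero_iff_mem.2 (Ideal.pow_mem_of_mem _ (Ideal.mem_span_singleton_self t) Q hQ)
      ext i j
      simp [W, Matrix.map_apply, Matrix.one_apply, apply_ite π, ht]
    obtain ⟨r, hr⟩ := Ideal.mem_span_singleton.1 (Ideal.Quotient.eq.1 (h1.trans (map_one π).symm))
    have h2 := Ideal.mem_jacobson_bot.1 hjac r
    rwa [← hr, sub_add_cancel] at h2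
  have h1W : W.map (algebraMap A At) = 1 + M := by
    ext i j
    simp [W, Matrix.one_apply, apply_ite (algebraMap A At), hc i j]
  refine ⟨W⁻¹.map (algebraMap A At), ?_, ?_, fun i j => ?_⟩
  · rw [← h1W, ← Matrix.map_mul, Matrix.nonsing_inv_mul _ hW, Matrix.map_one _ (map_zero _) (map_one _)]
  · rw [← h1W, ← Matrix.map_mul, Matrix.mul_nonsing_inv _ hW, Matrix.map_one _ (map_zero _) (map_one _)]
  · refine ⟨(-(W⁻¹ * Matrix.of c)) i j, ?_⟩
    have e : W⁻¹ - 1 = t ^ Q • (-(W⁻¹ * Matrix.of c)) := by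
      have h := Matrix.nonsing_inv_mul _ hW
      simp only [W, Matrix.mul_add, Matrix.mul_one, Matrix.mul_smul] at h
      rw [smul_neg, eq_neg_iff_add_eq_zero, sub_add_eq_add_sub, sub_eq_zero]
      exact h
    have e' := congrArg (fun N => algebraMap A At (N i j)) e
    simpa [Matrix.sub_apply, Matrix.one_apply, apply_ite (algebraMap A At)] using e'

section Change

variable {A' : Type u} [CommRing A'] [Algebra A A'] {A't : Type u} [CommRing A't] [Algebra A' A't] [Algebra At A't]
  [Algebra A A't] [IsScalarTower A A' A't] [IsScalarTower A At A't]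

omit [IsLocalization.Away t At] in
theorem Small.map {M : Matrix l m At} (hM : Small t Q M) :
    Small (algebraMap A A' t) Q (M.map (algebraMap At A't)) := fun i j => by
  obtain ⟨c, hc⟩ := hM i j
  exact ⟨algebraMap A A' c, by
    rw [Matrix.map_apply, hc, ← IsScalarTower.algebraMap_apply A At A't, IsScalarTower.algebraMap_apply A A' A't,
      map_mul (algebraMap A A'), map_pow (algebraMap A A')]⟩

variable [IsLocalization.Away (algebraMap A A' t) A't]

theorem exists_approx_matrix (h : Approx t (algebraMap A A')) (P : ℕ) (Z : Matrix l m A't) :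
    ∃ Z₀ : Matrix l m At, Small (algebraMap A A' t) P (Z₀.map (algebraMap At A't) - Z) := by
  choose k c hc using fun x : l × m => IsLocalization.Away.surj (S := A't) (algebraMap A A' t) (Z x.1 x.2)
  choose a ha using fun x => h.surj (P + k x) (c x)
  obtain ⟨ι, hι⟩ := IsLocalization.Away.algebraMap_isUnit (S := At) t
  refine ⟨Matrix.of fun i j => algebraMap A At (a (i, j)) * (↑ι⁻¹ : At) ^ k (i, j), fun i j => ?_⟩
  obtain ⟨d, hd⟩ := Ideal.mem_span_singleton.1 (ha (i, j))
  refine ⟨-d, ?_⟩
  refine ((IsLocalization.Away.algebraMap_isUnit (S := A't) (algebraMap A A' t)).pow (k (i, j))).mul_left_cancel ?_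
  have h1 : algebraMap A' A't (algebraMap A A' t) ^ k (i, j) *
      algebraMap At A't (algebraMap A At (a (i, j)) * (↑ι⁻¹ : At) ^ k (i, j)) = algebraMap A' A't (algebraMap A A' (a (i, j))) := by
    rw [← IsScalarTower.algebraMap_apply A A' A't, ← IsScalarTower.algebraMap_apply A A' A't,
      IsScalarTower.algebraMap_apply A At A't t, IsScalarTower.algebraMap_apply A At A't (a (i, j)),
      ← map_pow, ← map_mul, ← hι]
    congr 1
    rw [mul_left_comm, ← mul_pow, Units.mul_inv, one_pow, mul_one]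
  have h2 := congrArg (algebraMap A' A't) hd
  simp only [map_sub, map_mul, map_pow, pow_add] at h2
  simp only [map_mul, map_pow] at h1
  simp only [Matrix.sub_apply, Matrix.map_apply, Matrix.of_apply, mul_sub, map_mul, map_pow, map_neg,
    mul_comm (algebraMap A' A't (algebraMap A A' t) ^ k (i, j)) (Z i j)]
  rw [hc (i, j)]
  linear_combination h1 - h2

theorem Small.of_map (h : Approx t (algebraMap A A')) {M : Matrix l m At}
    (hM : Small (algebraMap A A' t) Q (M.map (algebraMap At A't))) : Small t Q M := fun i j => by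
  obtain ⟨c, hc⟩ := hM i j
  obtain ⟨k, a, ha⟩ := IsLocalization.Away.surj (S := At) t (M i j)
  rw [Matrix.map_apply] at hc
  have h1 : algebraMap A' A't (algebraMap A A' a) = algebraMap A' A't (algebraMap A A' t ^ (Q + k) * c) := by
    have h2 := congrArg (algebraMap At A't) ha
    rw [map_mul, map_pow, hc, ← IsScalarTower.algebraMap_apply A At A't, ← IsScalarTower.algebraMap_apply A At A't,
      IsScalarTower.algebraMap_apply A A' A't, IsScalarTower.algebraMap_apply A A' A't a, ← map_pow (algebraMap A' A't),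
      ← map_mul] at h2
    rw [← h2, pow_add]
    congr 1; ring
  obtain ⟨⟨_, s, rfl⟩, hs⟩ := (IsLocalization.eq_iff_exists (Submonoid.powers (algebraMap A A' t)) A't).1 h1
  change algebraMap A A' t ^ s * _ = algebraMap A A' t ^ s * _ at hs
  obtain ⟨b, hb⟩ := Ideal.mem_span_singleton.1 (h.inj (s + (Q + k)) (t ^ s * a) (Ideal.mem_span_singleton.2
    ⟨c, by rw [map_mul, map_pow, hs]; ring⟩))
  refine ⟨b, ((IsLocalization.Away.algebraMap_isUnit (S := At) t).pow (k + s)).mul_left_cancel ?_⟩
  have h3 := congrArg (algebraMap A At) hb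
  simp only [map_mul, map_pow, pow_add] at h3 ⊢
  linear_combination h3 + (algebraMap A At t) ^ s * ha

end Change

end Groth.Agent.H9Elkik
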