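import Groth.Agent.H9Elkik.MatApprox
import Mathlib.RingTheory.TensorProduct.Free
import Mathlib.RingTheory.Finiteness.Projective
import Mathlib.LinearAlgebra.TensorProduct.Tower

/-!
# Projective modules along approximations
-/

set_option autoImplicit false
set_option linter.style.haveILetI false

universe u

open TensorProduct LinearMap Module

noncomputable section

namespace Groth.Agent.H9Elkik

section Small

variable {A : Type u} [CommRing A] {t : A} {At : Type u} [CommRing At] [Algebra A At]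
  [IsLocalization.Away t At] {ι : Type} [Fintype ι] [DecidableEq ι]

theorem bijective_of_small (hjac : t ∈ Ideal.jacobson (⊥ : Ideal A)) {W M : Type*} [AddCommGroup W] [Module At W]
    [AddCommGroup M] [Module At M] (b : Basis ι At W) (i : M →ₗ[At] W) (p : W →ₗ[At] M)
    (hpi : p ∘ₗ i = LinearMap.id) (u : M →ₗ[At] M)
    (hu : Small t 1 (toMatrix b b (i ∘ₗ u ∘ₗ p) - toMatrix b b (i ∘ₗ p))) : Function.Bijective u := by
  obtain ⟨V, hV, hV', -⟩ := exists_inverse_small hjac le_rfl hu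
  let G : W →ₗ[At] W := LinearMap.id + (i ∘ₗ u ∘ₗ p - i ∘ₗ p)
  have hG : toMatrix b b G = 1 + (toMatrix b b (i ∘ₗ u ∘ₗ p) - toMatrix b b (i ∘ₗ p)) := by
    rw [map_add, map_sub, toMatrix_id]
  have h1 : Matrix.toLin b b V ∘ₗ G = LinearMap.id := (toMatrix b b).injective (by
    rw [toMatrix_comp b b b, toMatrix_toLin, hG, hV, toMatrix_id])
  have h2 : G ∘ₗ Matrix.toLin b b V = LinearMap.id := (toMatrix b b).injective (by
    rw [toMatrix_comp b b b, toMatrix_toLin, hG, hV', toMatrix_id])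
  have hp : ∀ x, p (i x) = x := fun x => LinearMap.congr_fun hpi x
  have hGi : ∀ x, G (i x) = i (u x) := fun x => by simp [G, hp]
  have hpG : ∀ z, p (G z) = u (p z) := fun z => by simp [G, hp]
  refine ⟨fun x y hxy => ?_, fun y => ⟨p (Matrix.toLin b b V (i y)), ?_⟩⟩
  · have h := congrArg i hxy
    rw [← hGi, ← hGi] at h
    have h' := congrArg (Matrix.toLin b b V) h
    have e : ∀ z, Matrix.toLin b b V (G z) = z := LinearMap.congr_fun h1
    rw [e, e] at h'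
    simpa [hp] using congrArg p h'
  · rw [← hpG, show G (Matrix.toLin b b V (i y)) = i y from LinearMap.congr_fun h2 (i y), hp]

theorem nonempty_equiv_of_close (hjac : t ∈ Ideal.jacobson (⊥ : Ideal A)) {W M₁ M₂ : Type*} [AddCommGroup W]
    [Module At W] [AddCommGroup M₁] [Module At M₁] [AddCommGroup M₂] [Module At M₂] (b : Basis ι At W)
    (i₁ : M₁ →ₗ[At] W) (p₁ : W →ₗ[At] M₁) (h₁ : p₁ ∘ₗ i₁ = LinearMap.id)
    (i₂ : M₂ →ₗ[At] W) (p₂ : W →ₗ[At] M₂) (h₂ : p₂ ∘ₗ i₂ = LinearMap.id)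
    (h : Small t 1 ((toMatrix b b (i₂ ∘ₗ p₂) - toMatrix b b (i₁ ∘ₗ p₁)) * (toMatrix b b (i₁ ∘ₗ p₁) + toMatrix b b (i₁ ∘ₗ p₁) - 1))) :
    Nonempty (M₁ ≃ₗ[At] M₂) := by
  obtain ⟨V, hV, hV', -⟩ := exists_inverse_small hjac le_rfl h
  let e := i₁ ∘ₗ p₁
  let f := i₂ ∘ₗ p₂
  let G : W →ₗ[At] W := LinearMap.id + (f - e) ∘ₗ (e + e - LinearMap.id)
  have hG : toMatrix b b G = 1 + ((toMatrix b b f - toMatrix b b e) * (toMatrix b b e + toMatrix b b e - 1)) := by
    rw [map_add, toMatrix_id, toMatrix_comp b b b, map_sub, map_sub, map_add, toMatrix_id]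
  let H := Matrix.toLin b b V
  have h1 : ∀ z, H (G z) = z := LinearMap.congr_fun (show H ∘ₗ G = LinearMap.id from (toMatrix b b).injective (by
    rw [toMatrix_comp b b b, toMatrix_toLin, hG, hV, toMatrix_id]))
  have h2 : ∀ z, G (H z) = z := LinearMap.congr_fun (show G ∘ₗ H = LinearMap.id from (toMatrix b b).injective (by
    rw [toMatrix_comp b b b, toMatrix_toLin, hG, hV', toMatrix_id]))
  have hp₁ : ∀ x, p₁ (i₁ x) = x := fun x => LinearMap.congr_fun h₁ x
  have hp₂ : ∀ x, p₂ (i₂ x) = x := fun x => LinearMap.congr_fun h₂ x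
  have hGe : ∀ z, G (e z) = f (G z) := fun z => by
    simp only [G, e, f, LinearMap.add_apply, LinearMap.sub_apply, LinearMap.comp_apply, LinearMap.id_apply, map_add,
      map_sub, hp₁, hp₂]
    abel
  refine ⟨LinearEquiv.ofLinear (p₂ ∘ₗ G ∘ₗ i₁) (p₁ ∘ₗ H ∘ₗ i₂) (LinearMap.ext fun x => ?_) (LinearMap.ext fun x => ?_)⟩
  · show p₂ (G (i₁ (p₁ (H (i₂ x))))) = x
    rw [show i₁ (p₁ (H (i₂ x))) = e (H (i₂ x)) from rfl, hGe, h2, show f (i₂ x) = i₂ (p₂ (i₂ x)) from rfl, hp₂, hp₂]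
  · show p₁ (H (i₂ (p₂ (G (i₁ x))))) = x
    rw [show i₂ (p₂ (G (i₁ x))) = f (G (i₁ x)) from rfl, ← hGe, h1, show e (i₁ x) = i₁ (p₁ (i₁ x)) from rfl, hp₁, hp₁]

end Small

variable {A : Type u} [CommRing A] {t : A} {At : Type u} [CommRing At] [Algebra A At]
  [IsLocalization.Away t At] {A' : Type u} [CommRing A'] [Algebra A A'] {A't : Type u} [CommRing A't]
  [Algebra A' A't] [Algebra At A't] [Algebra A A't] [IsScalarTower A A' A't] [IsScalarTower A At A't]
  [IsLocalization.Away (algebraMap A A' t) A't]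

/-- Finite projective modules isomorphic over `A'[1/t]` are isomorphic. -/
theorem nonempty_linearEquiv_of_tensor (h : Approx t (algebraMap A A')) (hjac : t ∈ Ideal.jacobson (⊥ : Ideal A))
    (M N : Type u) [AddCommGroup M] [Module At M] [Module.Finite At M] [Module.Projective At M]
    [AddCommGroup N] [Module At N] [Module.Finite At N] [Module.Projective At N]
    (α : A't ⊗[At] M ≃ₗ[A't] A't ⊗[At] N) : Nonempty (M ≃ₗ[At] N) := by
  obtain ⟨m, p, i, -, -, hpi⟩ := Module.Finite.exists_comp_eq_id_of_projective At M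
  obtain ⟨n, q, j, -, -, hqj⟩ := Module.Finite.exists_comp_eq_id_of_projective At N
  let bm := Pi.basisFun At (Fin m)
  let bn := Pi.basisFun At (Fin n)
  let bm' := Algebra.TensorProduct.basis A't bm
  let bn' := Algebra.TensorProduct.basis A't bn
  let ψ := fun {l r : ℕ} (Z : Matrix (Fin l) (Fin r) At) => Z.map (algebraMap At A't)
  let e := toMatrix bm bm (i ∘ₗ p)
  let f := toMatrix bn bn (j ∘ₗ q)
  let X := toMatrix bm' bn' (j.baseChange A't ∘ₗ α.toLinearMap ∘ₗ p.baseChange A't)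
  let Y := toMatrix bn' bm' (i.baseChange A't ∘ₗ α.symm.toLinearMap ∘ₗ q.baseChange A't)
  have hpi' : ∀ x, p.baseChange A't (i.baseChange A't x) = x := fun x => by
    rw [← LinearMap.comp_apply, ← LinearMap.baseChange_comp, hpi, LinearMap.baseChange_id]; rfl
  have hqj' : ∀ x, q.baseChange A't (j.baseChange A't x) = x := fun x => by
    rw [← LinearMap.comp_apply, ← LinearMap.baseChange_comp, hqj, LinearMap.baseChange_id]; rfl
  have he : ψ e = toMatrix bm' bm' (i.baseChange A't ∘ₗ p.baseChange A't) := by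
    rw [← LinearMap.baseChange_comp]
    exact (LinearMap.toMatrix_baseChange A't (i ∘ₗ p) bm bm).symm
  have hf : ψ f = toMatrix bn' bn' (j.baseChange A't ∘ₗ q.baseChange A't) := by
    rw [← LinearMap.baseChange_comp]
    exact (LinearMap.toMatrix_baseChange A't (j ∘ₗ q) bn bn).symm
  have hYX : Y * X = ψ e := by
    rw [he, ← toMatrix_comp bm' bn' bm']
    congr 1
    exact LinearMap.ext fun z => by simp [hqj']
  have hXY : X * Y = ψ f := by
    rw [hf, ← toMatrix_comp bn' bm' bn']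
    congr 1
    exact LinearMap.ext fun z => by simp [hpi']
  have hX : ψ f * X * ψ e = X := by
    rw [hf, he, ← toMatrix_comp bm' bn' bn', ← toMatrix_comp bm' bm' bn']
    congr 1
    exact LinearMap.ext fun z => by simp [hqj', hpi']
  have hY : ψ e * Y * ψ f = Y := by
    rw [hf, he, ← toMatrix_comp bn' bm' bm', ← toMatrix_comp bn' bn' bm']
    congr 1
    exact LinearMap.ext fun z => by simp [hqj', hpi']
  obtain ⟨P₁, -, hP₁⟩ := exists_mul_approx (t := algebraMap A A' t) Y X 1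
  obtain ⟨P₂, -, hP₂⟩ := exists_mul_approx (t := algebraMap A A' t) X Y 1
  obtain ⟨K₁, hK₁⟩ := exists_mul_left (m := Fin m) (t := algebraMap A A' t) (ψ f)
  obtain ⟨K₂, hK₂⟩ := exists_mul_right (l := Fin n) (t := algebraMap A A' t) (ψ e)
  obtain ⟨L₁, hL₁⟩ := exists_mul_left (m := Fin n) (t := algebraMap A A' t) (ψ e)
  obtain ⟨L₂, hL₂⟩ := exists_mul_right (l := Fin m) (t := algebraMap A A' t) (ψ f)
  obtain ⟨X₀, hX₀⟩ := exists_approx_matrix (At := At) h (P₁ + P₂ + K₂ + K₁) X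
  obtain ⟨Y₀, hY₀⟩ := exists_approx_matrix (At := At) h (P₁ + P₂ + L₂ + L₁) Y
  let a : M →ₗ[At] N := q ∘ₗ Matrix.toLin bm bn X₀ ∘ₗ i
  let b : N →ₗ[At] M := p ∘ₗ Matrix.toLin bn bm Y₀ ∘ₗ j
  have hpi0 : ∀ x, p (i x) = x := fun x => LinearMap.congr_fun hpi x
  have hqj0 : ∀ x, q (j x) = x := fun x => LinearMap.congr_fun hqj x
  have ha : toMatrix bm bn (j ∘ₗ a ∘ₗ p) = f * X₀ * e := by
    rw [show j ∘ₗ a ∘ₗ p = ((j ∘ₗ q) ∘ₗ Matrix.toLin bm bn X₀) ∘ₗ (i ∘ₗ p) from rfl, toMatrix_comp bm bm bn,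
      toMatrix_comp bm bn bn, toMatrix_toLin]
  have hb : toMatrix bn bm (i ∘ₗ b ∘ₗ q) = e * Y₀ * f := by
    rw [show i ∘ₗ b ∘ₗ q = ((i ∘ₗ p) ∘ₗ Matrix.toLin bn bm Y₀) ∘ₗ (j ∘ₗ q) from rfl, toMatrix_comp bn bn bm,
      toMatrix_comp bn bm bm, toMatrix_toLin]
  have hX₁ : Small (algebraMap A A' t) (P₁ + P₂) (ψ (f * X₀ * e) - X) := by
    have e0 : ψ (f * X₀ * e) - X = ψ f * (ψ X₀ - X) * ψ e := by
      simp only [Matrix.mul_sub, Matrix.sub_mul, hX, ψ, Matrix.map_mul]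
    rw [e0]; exact hK₂ _ _ (hK₁ _ _ hX₀)
  have hY₁ : Small (algebraMap A A' t) (P₁ + P₂) (ψ (e * Y₀ * f) - Y) := by
    have e0 : ψ (e * Y₀ * f) - Y = ψ e * (ψ Y₀ - Y) * ψ f := by
      simp only [Matrix.mul_sub, Matrix.sub_mul, hY, ψ, Matrix.map_mul]
    rw [e0]; exact hL₂ _ _ (hL₁ _ _ hY₀)
  have hba : Function.Bijective (b ∘ₗ a) := by
    refine bijective_of_small hjac bm i p hpi (b ∘ₗ a) (Small.of_map (A't := A't) h ?_)
    have e0 : toMatrix bm bm (i ∘ₗ (b ∘ₗ a) ∘ₗ p) = toMatrix bn bm (i ∘ₗ b ∘ₗ q) * toMatrix bm bn (j ∘ₗ a ∘ₗ p) := by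
      rw [← toMatrix_comp bm bn bm]
      congr 1
      exact LinearMap.ext fun z => by simp [hqj0]
    rw [e0, ha, hb, Matrix.map_sub _ (map_sub _), Matrix.map_mul]
    show Small _ _ (ψ (e * Y₀ * f) * ψ (f * X₀ * e) - ψ e)
    rw [← hYX]
    exact hP₁ _ _ (hY₁.mono (by omega)) (hX₁.mono (by omega))
  have hab : Function.Bijective (a ∘ₗ b) := by
    refine bijective_of_small hjac bn j q hqj (a ∘ₗ b) (Small.of_map (A't := A't) h ?_)
    have e0 : toMatrix bn bn (j ∘ₗ (a ∘ₗ b) ∘ₗ q) = toMatrix bm bn (j ∘ₗ a ∘ₗ p) * toMatrix bn bm (i ∘ₗ b ∘ₗ q) := by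
      rw [← toMatrix_comp bn bm bn]
      congr 1
      exact LinearMap.ext fun z => by simp [hpi0]
    rw [e0, ha, hb, Matrix.map_sub _ (map_sub _), Matrix.map_mul]
    show Small _ _ (ψ (f * X₀ * e) * ψ (e * Y₀ * f) - ψ f)
    rw [← hXY]
    exact hP₂ _ _ (hX₁.mono (by omega)) (hY₁.mono (by omega))
  exact ⟨LinearEquiv.ofBijective a ⟨Function.Injective.of_comp (f := b) hba.1,
    Function.Surjective.of_comp (g := b) hab.2⟩⟩

/-- Stably free modules over `A'[1/t]` descend to stably free modules. -/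
theorem exists_stablyFree (h : Approx t (algebraMap A A')) (hjac : t ∈ Ideal.jacobson (⊥ : Ideal A))
    (hjac' : algebraMap A A' t ∈ Ideal.jacobson (⊥ : Ideal A'))
    (M' : Type u) [AddCommGroup M'] [Module A't M'] (n m : ℕ)
    (ε : (M' × (Fin n → A't)) ≃ₗ[A't] (Fin m → A't)) :
    ∃ (M : Type u) (_ : AddCommGroup M) (_ : Module At M), Module.Finite At M ∧
      Nonempty ((M × (Fin n → At)) ≃ₗ[At] (Fin m → At)) ∧ Nonempty (A't ⊗[At] M ≃ₗ[A't] M') := by
  let bm := Pi.basisFun At (Fin m)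
  let bn := Pi.basisFun At (Fin n)
  let bm' := Algebra.TensorProduct.basis A't bm
  let bn' := Algebra.TensorProduct.basis A't bn
  let ψ := fun {l r : ℕ} (Z : Matrix (Fin l) (Fin r) At) => Z.map (algebraMap At A't)
  let εm := bm'.equivFun
  let εn := bn'.equivFun
  let Φ : A't ⊗[At] (Fin m → At) →ₗ[A't] A't ⊗[At] (Fin n → At) :=
    εn.symm.toLinearMap ∘ₗ LinearMap.snd A't M' _ ∘ₗ ε.symm.toLinearMap ∘ₗ εm.toLinearMap
  let Sg : A't ⊗[At] (Fin n → At) →ₗ[A't] A't ⊗[At] (Fin m → At) :=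
    εm.symm.toLinearMap ∘ₗ ε.toLinearMap ∘ₗ LinearMap.inr A't M' _ ∘ₗ εn.toLinearMap
  let i₂ : M' →ₗ[A't] A't ⊗[At] (Fin m → At) := εm.symm.toLinearMap ∘ₗ ε.toLinearMap ∘ₗ LinearMap.inl A't M' _
  let p₂ : A't ⊗[At] (Fin m → At) →ₗ[A't] M' := LinearMap.fst A't M' _ ∘ₗ ε.symm.toLinearMap ∘ₗ εm.toLinearMap
  have h₂ : p₂ ∘ₗ i₂ = LinearMap.id := LinearMap.ext fun x => by simp [p₂, i₂]
  have hPhiS : Φ ∘ₗ Sg = LinearMap.id := LinearMap.ext fun x => by simp [Φ, Sg]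
  have hSPhi : i₂ ∘ₗ p₂ = LinearMap.id - Sg ∘ₗ Φ := LinearMap.ext fun z => εm.injective (ε.symm.injective (by
    refine Prod.ext ?_ ?_ <;> simp [i₂, p₂, Φ, Sg]))
  let F' := toMatrix bm' bn' Φ
  let S' := toMatrix bn' bm' Sg
  have hFS : F' * S' = 1 := by rw [← toMatrix_comp bn' bm' bn', hPhiS, toMatrix_id]
  let e₂ := toMatrix bm' bm' (i₂ ∘ₗ p₂)
  have he₂ : e₂ = 1 - S' * F' := by
    show toMatrix bm' bm' _ = _
    rw [hSPhi]
    refine (map_sub (toMatrix bm' bm') _ _).trans ?_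
    rw [toMatrix_id, toMatrix_comp bm' bn' bm']
  obtain ⟨K, hK⟩ := exists_mul_right (l := Fin m) (t := algebraMap A A' t) (e₂ + e₂ - 1)
  obtain ⟨P₁, hP₁K, hP₁⟩ := exists_mul_approx (t := algebraMap A A' t) S' F' (1 + K)
  obtain ⟨P₂, hP₂P, hP₂⟩ := exists_mul_approx (t := algebraMap A A' t) S' (1 : Matrix (Fin n) (Fin n) A't) P₁
  obtain ⟨P₃, hP₃P, hP₃⟩ := exists_mul_approx (t := algebraMap A A' t) F' S' P₂
  obtain ⟨F₀, hF₀⟩ := exists_approx_matrix (At := At) h (P₃ + P₂ + P₁) F'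
  obtain ⟨S₀, hS₀⟩ := exists_approx_matrix (At := At) h (P₃ + P₂ + P₁) S'
  have hsm : Small t P₂ (F₀ * S₀ - 1) := by
    refine Small.of_map (A't := A't) h ?_
    rw [Matrix.map_sub _ (map_sub _), Matrix.map_mul, Matrix.map_one _ (map_zero _) (map_one _), ← hFS]
    exact hP₃ _ _ (hF₀.mono (by omega)) (hS₀.mono (by omega))
  obtain ⟨V, -, hV, hV1⟩ := exists_inverse_small hjac (by omega) hsm
  rw [add_sub_cancel] at hV
  have hFS₀ : F₀ * (S₀ * V) = 1 := by rw [← Matrix.mul_assoc]; exact hV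
  let F := Matrix.toLin bm bn F₀
  let S := Matrix.toLin bn bm (S₀ * V)
  have hFS1 : ∀ y, F (S y) = y := LinearMap.congr_fun (show F ∘ₗ S = LinearMap.id from (toMatrix bn bn).injective (by
    rw [toMatrix_comp bn bm bn, toMatrix_toLin, toMatrix_toLin, hFS₀, toMatrix_id]))
  let M := LinearMap.ker F
  let p₁ : (Fin m → At) →ₗ[At] M := (LinearMap.id - S ∘ₗ F).codRestrict M fun z => by simp [M, hFS1]
  let i₁ : M →ₗ[At] (Fin m → At) := M.subtype
  have h₁ : p₁ ∘ₗ i₁ = LinearMap.id := LinearMap.ext fun x => Subtype.ext (by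
    simp [p₁, i₁, show F x.1 = 0 from x.2])
  refine ⟨M, inferInstance, inferInstance, Module.Finite.of_surjective p₁ (fun x => ⟨i₁ x, LinearMap.congr_fun h₁ x⟩),
    ⟨LinearEquiv.ofLinear (LinearMap.coprod i₁ S) (LinearMap.prod p₁ F) (LinearMap.ext fun z => ?_)
      (LinearMap.ext fun x => ?_)⟩, ?_⟩
  · simp [p₁, i₁]
  · refine Prod.ext (Subtype.ext ?_) ?_
    · simp [p₁, i₁, hFS1, show F x.1.1 = 0 from x.1.2]
    · simp [i₁, hFS1, show F x.1.1 = 0 from x.1.2]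
  · have he₁ : toMatrix bm' bm' (i₁.baseChange A't ∘ₗ p₁.baseChange A't) = 1 - ψ (S₀ * V) * ψ F₀ := by
      rw [← LinearMap.baseChange_comp]
      refine (LinearMap.toMatrix_baseChange A't (i₁ ∘ₗ p₁) bm bm).trans ?_
      rw [show i₁ ∘ₗ p₁ = LinearMap.id - S ∘ₗ F from rfl, map_sub, toMatrix_id, toMatrix_comp bm bn bm,
        toMatrix_toLin, toMatrix_toLin, Matrix.map_sub _ (map_sub _), Matrix.map_one _ (map_zero _) (map_one _),
        Matrix.map_mul]
    have hV' : Small (algebraMap A A' t) P₂ (ψ V - 1) := by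
      have := hV1.map (A' := A') (A't := A't)
      rwa [Matrix.map_sub _ (map_sub _), Matrix.map_one _ (map_zero _) (map_one _)] at this
    have hS₁ : Small (algebraMap A A' t) P₁ (ψ (S₀ * V) - S') := by
      have := hP₂ (ψ S₀) (ψ V) (hS₀.mono (by omega)) hV'
      rw [Matrix.mul_one] at this
      simpa only [ψ, Matrix.map_mul] using this
    have hd : Small (algebraMap A A' t) (1 + K) ((1 - ψ (S₀ * V) * ψ F₀) - e₂) := by
      rw [he₂, sub_sub_sub_cancel_left]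
      exact small_sub_symm (hP₁ _ _ hS₁ (hF₀.mono (by omega)))
    refine (nonempty_equiv_of_close hjac' bm' i₂ p₂ h₂ (i₁.baseChange A't) (p₁.baseChange A't) (by
      rw [← LinearMap.baseChange_comp, h₁, LinearMap.baseChange_id]) ?_).map LinearEquiv.symm
    rw [he₁]
    exact hK _ _ hd

end Groth.Agent.H9Elkik
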