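import Groth.Agent.H9Elkik.Model
import Mathlib.RingTheory.LaurentSeries
import Mathlib.RingTheory.PowerSeries.Inverse
import Mathlib.RingTheory.Localization.LocalizationLocalization

/-!
# Polynomials localized at the series with constant term one
-/

set_option autoImplicit false
set_option linter.style.haveILetI false

universe u

open Polynomial

noncomputable section

namespace Groth.Agent.H9Elkik

variable (R : Type u) [CommRing R]

/-- Polynomials with constant coefficient one. -/
def constOne : Submonoid R[X] where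
  carrier := {f | f.coeff 0 = 1}
  one_mem' := by simp
  mul_mem' {f g} hf hg := by simp [Set.mem_setOf_eq ▸ hf, Set.mem_setOf_eq ▸ hg, mul_coeff_zero]

/-- `R[X]` with the polynomials of constant coefficient one inverted. -/
abbrev PolyLoc : Type u := Localization (constOne R)

theorem isUnit_series_of_mem (f : constOne R) : IsUnit (((f : R[X]) : PowerSeries R)) := by
  rw [PowerSeries.isUnit_iff_constantCoeff, ← PowerSeries.coeff_zero_eq_constantCoeff_apply, Polynomial.coeff_coe,
    show (f : R[X]).coeff 0 = 1 from f.2]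
  exact isUnit_one

/-- The expansion in power series. -/
def expand : PolyLoc R →+* PowerSeries R :=
  IsLocalization.lift (M := constOne R) (g := Polynomial.coeToPowerSeries.ringHom) (isUnit_series_of_mem R)

theorem expand_algebraMap (p : R[X]) : expand R (algebraMap R[X] (PolyLoc R) p) = (p : PowerSeries R) :=
  IsLocalization.lift_eq _ p

theorem approx_expand : Approx (algebraMap R[X] (PolyLoc R) X) (expand R) where
  inj M x hx := by
    obtain ⟨⟨g, s⟩, h⟩ := IsLocalization.surj (constOne R) x
    have h1 : (g : PowerSeries R) ∈ Ideal.span {(PowerSeries.X : PowerSeries R) ^ M} := by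
      have := congrArg (expand R) h
      rw [map_mul, expand_algebraMap, expand_algebraMap] at this
      rw [← this]
      rw [expand_algebraMap, Polynomial.coe_X] at hx
      exact Ideal.mul_mem_right _ _ hx
    rw [Ideal.mem_span_singleton, PowerSeries.X_pow_dvd_iff] at h1
    obtain ⟨c, hc⟩ : (X : R[X]) ^ M ∣ g := Polynomial.X_pow_dvd_iff.2 fun d hd => by simpa using h1 d hd
    obtain ⟨u, hu⟩ := IsLocalization.map_units (PolyLoc R) s
    rw [Ideal.mem_span_singleton]
    refine ⟨algebraMap R[X] (PolyLoc R) c * ↑u⁻¹, ?_⟩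
    rw [← mul_assoc, ← map_pow, ← map_mul, ← hc, ← h, ← hu, Units.mul_inv_cancel_right]
  surj M s := by
    refine ⟨algebraMap R[X] (PolyLoc R) (PowerSeries.trunc M s), ?_⟩
    rw [expand_algebraMap, expand_algebraMap, Polynomial.coe_X, Ideal.mem_span_singleton, PowerSeries.X_pow_dvd_iff]
    intro d hd
    rw [map_sub, Polynomial.coeff_coe, PowerSeries.coeff_trunc, if_pos hd, sub_self]

theorem X_mem_jacobson : algebraMap R[X] (PolyLoc R) X ∈ Ideal.jacobson (⊥ : Ideal (PolyLoc R)) := by
  refine Ideal.mem_jacobson_bot.2 fun a => ?_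
  obtain ⟨⟨g, s⟩, h⟩ := IsLocalization.surj (constOne R) a
  have hs : (s : R[X]).coeff 0 = 1 := s.2
  have hmem : X * g + (s : R[X]) ∈ constOne R := by
    show (X * g + (s : R[X])).coeff 0 = 1
    rw [coeff_add, mul_coeff_zero, coeff_X_zero, zero_mul, zero_add, hs]
  have h1 : IsUnit (algebraMap R[X] (PolyLoc R) (X * g + (s : R[X]))) :=
    IsLocalization.map_units (PolyLoc R) (⟨_, hmem⟩ : constOne R)
  rw [map_add, map_mul, ← h, ← mul_assoc, ← add_one_mul] at h1
  exact isUnit_of_mul_isUnit_left h1

theorem series_X_mem_jacobson : (PowerSeries.X : PowerSeries R) ∈ Ideal.jacobson (⊥ : Ideal (PowerSeries R)) :=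
  Ideal.mem_jacobson_bot.2 fun a => PowerSeries.isUnit_iff_constantCoeff.2 (by simp)

theorem isLocalization_away (L : Type u) [CommRing L] [Algebra R[X] L]
    [IsLocalization (Submonoid.closure ({f : R[X] | f.coeff 0 = 1} ∪ {X})) L] :
    ∃ (_ : Algebra (PolyLoc R) L), IsScalarTower R[X] (PolyLoc R) L ∧
      IsLocalization.Away (algebraMap R[X] (PolyLoc R) X) L := by
  let N := Submonoid.closure ({f : R[X] | f.coeff 0 = 1} ∪ {X})
  have hle : constOne R ≤ N := fun f hf => Submonoid.subset_closure (Or.inl hf)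
  letI := IsLocalization.localizationAlgebraOfSubmonoidLe (PolyLoc R) L (constOne R) N hle
  haveI := IsLocalization.localization_isScalarTower_of_submonoid_le (PolyLoc R) L (constOne R) N hle
  refine ⟨inferInstance, inferInstance, ?_⟩
  haveI : IsLocalization (N.map (algebraMap R[X] (PolyLoc R))) L :=
    IsLocalization.isLocalization_of_submonoid_le (PolyLoc R) L (constOne R) N hle
  have hdvd : ∀ c ∈ N.map (algebraMap R[X] (PolyLoc R)), ∃ k : ℕ, c ∣ algebraMap R[X] (PolyLoc R) X ^ k := by
    rintro _ ⟨f, hf, rfl⟩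
    induction hf using Submonoid.closure_induction with
    | mem f hf =>
      rcases hf with hf | hf
      · exact ⟨0, (IsLocalization.map_units (PolyLoc R) (⟨f, hf⟩ : constOne R)).dvd⟩
      · obtain rfl : f = X := hf
        exact ⟨1, by rw [pow_one]⟩
    | one => exact ⟨0, by rw [map_one, pow_zero]⟩
    | mul a b _ _ ha hb =>
      obtain ⟨p, hp⟩ := ha
      obtain ⟨q, hq⟩ := hb
      exact ⟨p + q, by rw [map_mul, pow_add]; exact mul_dvd_mul hp hq⟩
  have hX : algebraMap R[X] (PolyLoc R) X ∈ N.map (algebraMap R[X] (PolyLoc R)) :=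
    ⟨X, Submonoid.subset_closure (Or.inr rfl), rfl⟩
  refine (isLocalization_iff _ _).2 ⟨?_, fun z => ?_, fun {x y} h => ?_⟩
  · rintro ⟨_, k, rfl⟩
    exact IsLocalization.map_units L (⟨_, pow_mem hX k⟩ : N.map (algebraMap R[X] (PolyLoc R)))
  · obtain ⟨⟨a, c⟩, hz⟩ := IsLocalization.surj (N.map (algebraMap R[X] (PolyLoc R))) z
    obtain ⟨k, d, hd⟩ := hdvd c c.2
    exact ⟨⟨a * d, ⟨algebraMap R[X] (PolyLoc R) X ^ k, k, rfl⟩⟩, by
      show z * algebraMap (PolyLoc R) L (algebraMap R[X] (PolyLoc R) X ^ k) = algebraMap (PolyLoc R) L (a * d)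
      rw [hd, map_mul, map_mul, ← mul_assoc, hz]⟩
  · obtain ⟨c, hc⟩ := IsLocalization.exists_of_eq (M := N.map (algebraMap R[X] (PolyLoc R))) h
    obtain ⟨k, d, hd⟩ := hdvd c c.2
    exact ⟨⟨_, k, rfl⟩, by
      show algebraMap R[X] (PolyLoc R) X ^ k * x = algebraMap R[X] (PolyLoc R) X ^ k * y
      rw [hd]; linear_combination d * hc⟩

end Groth.Agent.H9Elkik
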