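import Mathlib.RingTheory.PowerSeries.Trunc
import Mathlib.RingTheory.AdicCompletion.Basic
import Mathlib.RingTheory.Henselian

/-!
# Power series are complete along the variable
-/

set_option autoImplicit false

universe u

namespace Groth.Agent.H9Elkik

theorem isAdicComplete_X (R : Type u) [CommRing R] :
    IsAdicComplete (Ideal.span {(PowerSeries.X : PowerSeries R)}) (PowerSeries R) where
  haus' x hx := by
    ext n
    have h := hx (n + 1)
    rw [SModEq.zero, smul_eq_mul, Ideal.mul_top, Ideal.span_singleton_pow, Ideal.mem_span_singleton,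
      PowerSeries.X_pow_dvd_iff] at h
    rw [h n (Nat.lt_succ_self n), map_zero]
  prec' f hf := by
    refine ⟨PowerSeries.mk fun n => PowerSeries.coeff n (f (n + 1)), fun m => ?_⟩
    rw [SModEq.sub_mem, smul_eq_mul, Ideal.mul_top, Ideal.span_singleton_pow, Ideal.mem_span_singleton,
      PowerSeries.X_pow_dvd_iff]
    intro k hk
    have h := hf (Nat.succ_le_of_lt hk)
    rw [SModEq.sub_mem, smul_eq_mul, Ideal.mul_top, Ideal.span_singleton_pow, Ideal.mem_span_singleton,
      PowerSeries.X_pow_dvd_iff] at h
    have h1 := h k (Nat.lt_succ_self k)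
    rw [map_sub] at h1 ⊢
    rw [PowerSeries.coeff_mk]
    exact sub_eq_zero.2 (sub_eq_zero.1 h1).symm

end Groth.Agent.H9Elkik
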