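import Groth.Agent.H4RG.EtaleRel
import Groth.Agent.Hensel.SmoothLift
import Groth.Agent.Hensel.PairBasic
import Mathlib.LinearAlgebra.Matrix.Charpoly.Minpoly
import Mathlib.RingTheory.Nakayama

/-!
# Exact roots near approximate roots of systems smooth away from a principal ideal

No Noetherian hypothesis: the element is a nonzerodivisor.
-/

set_option autoImplicit false
set_option linter.style.haveILetI false

universe u

open MvPolynomial

namespace Groth.Agent.H9Elkik

variable {A : Type u} [CommRing A] {t : A}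

theorem smul_right_cancel_pow (ht : ∀ x, t * x = 0 → x = 0) (e : ℕ) {x y : A} (h : t ^ e * x = t ^ e * y) : x = y := by
  induction e with
  | zero => simpa using h
  | succ e ih =>
    refine ih (sub_eq_zero.1 (ht _ ?_))
    rw [mul_sub, ← mul_assoc, ← mul_assoc, ← pow_succ', h, sub_self]

open scoped IsMulCommutative in
/-- An idempotent up to a power of `t` near an approximate one. -/
theorem exists_matrix_idem [HenselianRing A (Ideal.span {t})] (ht : ∀ x, t * x = 0 → x = 0) {m : ℕ}
    (P S : Matrix (Fin m) (Fin m) A) (k M : ℕ) (hM : 1 ≤ M)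
    (hS : P * P - t ^ k • P = t ^ (2 * k + M) • S) :
    ∃ E ρ : Matrix (Fin m) (Fin m) A, E * E = t ^ k • E ∧ P = E + t ^ M • ρ := by
  classical
  have hPS : P * S = S * P := by
    have key : t ^ (2 * k + M) • (P * S) = t ^ (2 * k + M) • (S * P) := by
      rw [← mul_smul_comm, ← smul_mul_assoc, ← hS, mul_sub, sub_mul, mul_assoc, mul_smul_comm, smul_mul_assoc]
    ext i j
    exact smul_right_cancel_pow ht (2 * k + M) (congrFun (congrFun key i) j)
  haveI := Algebra.isMulCommutative_adjoin A (s := ({P, S} : Set (Matrix (Fin m) (Fin m) A))) (by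
    rintro x (rfl | rfl) y (rfl | rfl) <;> first | rfl | exact hPS | exact hPS.symm)
  let R := Algebra.adjoin A ({P, S} : Set (Matrix (Fin m) (Fin m) A))
  haveI : Algebra.IsIntegral A R := ⟨fun x =>
    (isIntegral_algHom_iff R.val Subtype.val_injective).1 (Matrix.isIntegral _)⟩
  let τ : R := algebraMap A R t
  haveI hH : HenselianRing R (Ideal.span {τ}) := by
    have h := Hensel.henselianRing_of_isIntegral' (Ideal.span {t}) R
    rwa [Ideal.map_span, Set.image_singleton] at h
  let p : R := ⟨P, Algebra.subset_adjoin (by simp)⟩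
  let s : R := ⟨S, Algebra.subset_adjoin (by simp)⟩
  have hf : p * p - τ ^ k * p = τ ^ (2 * k + M) * s := Subtype.ext (by
    show P * P - (algebraMap A (Matrix (Fin m) (Fin m) A) t) ^ k * P = (algebraMap A (Matrix (Fin m) (Fin m) A) t) ^ (2 * k + M) * S
    rw [← map_pow, ← map_pow, ← Algebra.smul_def, ← Algebra.smul_def]
    exact hS)
  have hmem : τ ^ M ∈ Ideal.span {τ} := Ideal.pow_mem_of_mem _ (Ideal.mem_span_singleton_self τ) M hM
  obtain ⟨u, hu⟩ : IsUnit (τ ^ M * s * 4 + 1) :=
    Ideal.mem_jacobson_bot.1 (HenselianRing.jac (I := Ideal.span {τ}) (Ideal.mul_mem_right s _ hmem)) 4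
  let b : R := τ ^ M * s * ↑u⁻¹
  have hbmem : b ∈ Ideal.span {τ} := Ideal.mul_mem_right _ _ (Ideal.mul_mem_right s _ hmem)
  obtain ⟨y, hy, hy0⟩ := HenselianRing.is_henselian (I := Ideal.span {τ})
    (Polynomial.X ^ 2 + Polynomial.X + Polynomial.C b : Polynomial R) (by monicity!) 0 (by simpa using hbmem) (by simp)
  rw [Polynomial.IsRoot, Polynomial.eval_add, Polynomial.eval_add, Polynomial.eval_pow, Polynomial.eval_X,
    Polynomial.eval_C] at hy
  rw [sub_zero] at hy0
  obtain ⟨r, hr⟩ : IsUnit (y * 1 + 1) := Ideal.mem_jacobson_bot.1 (HenselianRing.jac (I := Ideal.span {τ}) hy0) 1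
  let E : R := p + (2 * p - τ ^ k) * y
  have hub : (u : R) * b = τ ^ M * s := by
    rw [show b = ↑u⁻¹ * (τ ^ M * s) from mul_comm _ _, Units.mul_inv_cancel_left]
  have hE : E * E = τ ^ k * E := by
    have h1 : τ ^ M * s + (τ ^ M * s * 4 + 1) * (y * y + y) = 0 := by
      rw [← hu]; linear_combination (u : R) * hy - hub
    have h2 : τ ^ (2 * k + M) = τ ^ k * τ ^ k * τ ^ M := by rw [two_mul, pow_add, pow_add]
    rw [h2] at hf
    linear_combination τ ^ k * τ ^ k * h1 + (1 + 4 * (y * y + y)) * hf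
  have hy2 : y = τ ^ M * (-(s * ↑u⁻¹ * ↑r⁻¹)) := by
    have h1 : y * (r : R) = -b := by rw [hr]; linear_combination hy
    calc y = y * (r : R) * ↑r⁻¹ := by rw [Units.mul_inv_cancel_right]
      _ = _ := by rw [h1]; ring
  refine ⟨(E : Matrix (Fin m) (Fin m) A), ((((2 * p - τ ^ k) * (s * ↑u⁻¹ * ↑r⁻¹)) : R) : Matrix (Fin m) (Fin m) A), ?_, ?_⟩
  · have := congrArg Subtype.val hE
    rwa [MulMemClass.coe_mul, MulMemClass.coe_mul, SubmonoidClass.coe_pow,
      show (τ : Matrix (Fin m) (Fin m) A) = algebraMap A _ t from rfl, ← map_pow, ← Algebra.smul_def] at this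
  · have h3 : p = E + τ ^ M * ((2 * p - τ ^ k) * (s * ↑u⁻¹ * ↑r⁻¹)) := by
      show p = p + (2 * p - τ ^ k) * y + _
      rw [hy2]; ring
    have := congrArg Subtype.val h3
    rwa [AddMemClass.coe_add, MulMemClass.coe_mul, SubmonoidClass.coe_pow,
      show (τ : Matrix (Fin m) (Fin m) A) = algebraMap A _ t from rfl, ← map_pow, ← Algebra.smul_def] at this

theorem dvd_eval_sub {n : ℕ} (t : A) (g : MvPolynomial (Fin n) A) {X Y : Fin n → A} (h : ∀ j, t ∣ Y j - X j) :
    t ∣ eval Y g - eval X g := by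
  rw [← Ideal.mem_span_singleton]
  have := H4RG.aeval_sub_mem_span (A := A) X (fun j => Y j - X j) g
  rw [show X + (fun j => Y j - X j) = Y from funext fun j => add_sub_cancel (X j) (Y j), aeval_eq_eval, aeval_eq_eval] at this
  refine Ideal.span_le.2 ?_ this
  rintro _ ⟨j, rfl⟩
  exact Ideal.mem_span_singleton.2 (h j)

set_option maxHeartbeats 1000000 in
/-- Exact roots near approximate roots. -/
theorem exists_root [HenselianRing A (Ideal.span {t})] (ht : ∀ x, t * x = 0 → x = 0) {n m : ℕ}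
    (g : Fin m → MvPolynomial (Fin n) A) (R : Fin n → Fin m → MvPolynomial (Fin n) A) (k : ℕ)
    (hid : ∀ l, C t ^ k * g l - ∑ j, pderiv j (g l) * ∑ p, R j p * g p ∈ Ideal.span (Set.range g) ^ 2)
    (X : Fin n → A) (hX : ∀ l, t ^ (3 * k + 1) ∣ eval X (g l)) :
    ∃ Y : Fin n → A, (∀ l, eval Y (g l) = 0) ∧ ∀ j, t ^ (k + 1) ∣ Y j - X j := by
  classical
  choose e he using hX
  let J : Matrix (Fin m) (Fin n) A := Matrix.of fun l j => eval X (pderiv j (g l))
  let R₀ : Matrix (Fin n) (Fin m) A := Matrix.of fun j p => eval X (R j p)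
  let Pp : Fin m → Fin m → MvPolynomial (Fin n) A := fun l p => ∑ j, pderiv j (g l) * R j p
  let P : Matrix (Fin m) (Fin m) A := J * R₀
  have hPp : ∀ l p, P l p = eval X (Pp l p) := fun l p => by
    simp only [P, J, R₀, Pp, Matrix.mul_apply, Matrix.of_apply, map_sum, map_mul]
  have hid' : ∀ l, C t ^ k * g l - ∑ p, Pp l p * g p ∈ Ideal.span (Set.range g) ^ 2 := fun l => by
    convert hid l using 2
    simp only [Pp, Finset.sum_mul, Finset.mul_sum, mul_assoc]
    exact Finset.sum_comm
  -- the idempotent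
  have hgX : ∀ {z : MvPolynomial (Fin n) A}, z ∈ Ideal.span (Set.range g) → t ^ (3 * k + 1) ∣ eval X z := by
    intro z hz
    have h : Ideal.span (Set.range g) ≤ (Ideal.span {t ^ (3 * k + 1)}).comap (eval X) := Ideal.span_le.2 (by
      rintro _ ⟨l, rfl⟩
      exact Ideal.mem_span_singleton.2 ⟨e l, he l⟩)
    exact Ideal.mem_span_singleton.1 (h hz)
  have hPJ : ∀ l j, t ^ (3 * k + 1) ∣ (P * J) l j - t ^ k * J l j := fun l j => by
    have hmem : pderiv j (C t ^ k * g l - ∑ p, Pp l p * g p) + ∑ p, pderiv j (Pp l p) * g p ∈ Ideal.span (Set.range g) :=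
      Ideal.add_mem _ (H4RG.mem_of_mem_sq _ j (hid' l))
        (sum_mem fun p _ => Ideal.mul_mem_left _ _ (Ideal.subset_span ⟨p, rfl⟩))
    have e1 : eval X (pderiv j (C t ^ k * g l - ∑ p, Pp l p * g p) + ∑ p, pderiv j (Pp l p) * g p) =
        t ^ k * J l j - (P * J) l j := by
      simp only [map_add, map_sub, map_sum, Derivation.leibniz, Derivation.leibniz_pow, pderiv_C, smul_eq_mul,
        mul_zero, smul_zero, add_zero, map_mul, map_pow, eval_C, Matrix.mul_apply, hPp]
      simp only [J, Matrix.of_apply, Finset.sum_add_distrib]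
      rw [Finset.sum_congr rfl fun p _ => mul_comm (eval X (pderiv j (Pp l p))) (eval X (g p))]
      ring
    have := hgX hmem
    rw [e1] at this
    rwa [← dvd_neg, neg_sub]
  have hPP : ∀ l p, t ^ (3 * k + 1) ∣ (P * P) l p - t ^ k * P l p := fun l p => by
    rw [show P * P = P * J * R₀ from (Matrix.mul_assoc P J R₀).symm, Matrix.mul_apply, show P l p = ∑ j, J l j * R₀ j p from rfl,
      Finset.mul_sum, ← Finset.sum_sub_distrib]
    refine Finset.dvd_sum fun j _ => ?_
    rw [← mul_assoc, ← sub_mul]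
    exact (hPJ l j).mul_right _
  choose S hS using hPP
  obtain ⟨E, ρ, hE, hPE⟩ := exists_matrix_idem ht P (Matrix.of S) k (k + 1) (Nat.succ_pos k) (by
    ext l p
    rw [show 2 * k + (k + 1) = 3 * k + 1 by omega]
    exact hS l p)
  -- the equations
  let W : Fin m → MvPolynomial (Fin m) A := MvPolynomial.X
  let xc : Fin n → MvPolynomial (Fin m) A := algebraMap A _ ∘ X
  let dW : Fin n → MvPolynomial (Fin m) A := fun j => C (t ^ k) * ∑ p, C (R₀ j p) * W p
  have hq : ∀ l, ∃ q ∈ Ideal.span (Set.range W) ^ 2, C (t ^ (2 * k)) * q =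
      aeval (xc + dW) (g l) - aeval xc (g l) - ∑ j, aeval xc (pderiv j (g l)) * dW j := by
    intro l
    have hle : Ideal.span (Set.range dW) ≤ Ideal.span {C (t ^ k)} * Ideal.span (Set.range W) :=
      Ideal.span_le.2 (by
        rintro _ ⟨j, rfl⟩
        exact Ideal.mul_mem_mul (Ideal.mem_span_singleton_self _)
          (sum_mem fun p _ => Ideal.mul_mem_left _ _ (Ideal.subset_span ⟨p, rfl⟩)))
    have h2 := Ideal.pow_right_mono hle 2 (H4RG.taylor_mem_sq xc dW (g l))
    rw [mul_pow, Ideal.span_singleton_pow, ← map_pow, ← pow_mul, mul_comm k 2] at h2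
    exact Ideal.mem_span_singleton_mul.1 h2
  choose q hqW hqe using hq
  let G : Fin m → MvPolynomial (Fin m) A := fun l =>
    W l + C (t ^ (k + 1) * e l) + C t * (∑ p, C (ρ l p) * W p) + q l
  have hW0 : ∀ {z : MvPolynomial (Fin m) A}, z ∈ Ideal.span (Set.range W) → eval (0 : Fin m → A) z = 0 := by
    intro z hz
    have h : Ideal.span (Set.range W) ≤ RingHom.ker (eval (0 : Fin m → A)) :=
      Ideal.span_le.2 (by rintro _ ⟨j, rfl⟩; exact RingHom.mem_ker.2 (eval_X j))
    exact h hz
  have htt : t ∈ Ideal.span {t} := Ideal.mem_span_singleton_self t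
  obtain ⟨w, hw, hGw⟩ := Hensel.exists_root_of_jacobian (Ideal.span {t}) G 0 (fun l => by
      simp only [G, map_add, map_mul, map_sum, eval_C, W, eval_X, hW0 (Ideal.pow_le_self two_ne_zero (hqW l)),
        Pi.zero_apply, mul_zero, Finset.sum_const_zero, add_zero, zero_add]
      exact Ideal.mul_mem_right _ _ (Ideal.pow_mem_of_mem _ htt _ (Nat.succ_pos k)))
    (by
      rw [RingHom.map_det, RingHom.map_det]
      convert isUnit_one
      rw [← Matrix.det_one (R := A ⧸ Ideal.span {t}) (n := Fin m)]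
      congr 1
      ext i j
      simp only [RingHom.mapMatrix_apply, Matrix.map_apply, Matrix.of_apply, G, map_add, map_sum,
        Derivation.leibniz, pderiv_C, smul_eq_mul, mul_zero, add_zero, W, pderiv_X, map_mul,
        hW0 (H4RG.mem_of_mem_sq _ i (hqW j)), eval_C, Ideal.Quotient.eq_zero_iff_mem.2 htt,
        eval_X, Matrix.one_apply, Pi.single_apply, map_zero, zero_mul, Finset.sum_const_zero]
      by_cases hij : i = j
      · subst hij; simp
      · simp [hij, Ne.symm hij])
  have hwt : ∀ l, t ∣ w l := fun l => by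
    have := hw l
    rwa [Pi.zero_apply, sub_zero, Ideal.mem_span_singleton] at this
  let Y : Fin n → A := X + fun j => t ^ k * ∑ p, R₀ j p * w p
  have hYX : ∀ j, t ^ (k + 1) ∣ Y j - X j := fun j => by
    simp only [Y, Pi.add_apply, add_sub_cancel_left, pow_succ]
    exact mul_dvd_mul_left _ (Finset.dvd_sum fun p _ => (hwt p).mul_left _)
  refine ⟨Y, ?_, hYX⟩
  have hxc : ∀ z : MvPolynomial (Fin n) A, eval w (aeval xc z) = eval X z := fun z => by
    rw [show xc = algebraMap A _ ∘ X from rfl, aeval_algebraMap_apply, aeval_eq_eval]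
    exact eval_C _
  have hev : ∀ z : MvPolynomial (Fin n) A, eval w (aeval (xc + dW) z) = eval Y z := by
    intro z
    rw [← aeval_eq_eval w, ← aeval_eq_eval Y, ← AlgHom.comp_apply, comp_aeval]
    congr 2
    funext j
    simp [xc, dW, W, Y, algebraMap_eq]
  -- values at the root
  have hgY : (fun l => eval Y (g l)) = t ^ k • E.mulVec w - t ^ (2 * k) • w := funext fun l => by
    have h := congrArg (eval w) (hqe l)
    simp only [map_sub, map_mul, map_sum, hev, hxc, eval_C, dW, W, eval_X] at h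
    have hG := hGw l
    simp only [G, map_add, map_mul, map_sum, eval_C, W, eval_X] at hG
    have hJ : ∑ j, eval X (pderiv j (g l)) * (t ^ k * ∑ p, R₀ j p * w p) = t ^ k * P.mulVec w l := by
      rw [show P.mulVec w = J.mulVec (R₀.mulVec w) from (Matrix.mulVec_mulVec w J R₀).symm]
      simp only [Matrix.mulVec, dotProduct, Finset.mul_sum, J, Matrix.of_apply]
      exact Finset.sum_congr rfl fun j _ => Finset.sum_congr rfl fun p _ => by ring
    have hP : P.mulVec w l = E.mulVec w l + t ^ (k + 1) * ∑ p, ρ l p * w p := by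
      rw [hPE, Matrix.add_mulVec, Pi.add_apply, Matrix.smul_mulVec, Pi.smul_apply, smul_eq_mul]
      rfl
    rw [hJ, hP] at h
    simp only [Pi.sub_apply, Pi.smul_apply, smul_eq_mul]
    have e1 : t ^ (3 * k + 1) = t ^ (2 * k) * t ^ (k + 1) := by rw [← pow_add]; congr 1; omega
    have e2 : t ^ (2 * k) = t ^ k * t ^ k := by rw [two_mul, pow_add]
    have e3 : t ^ (k + 1) = t ^ k * t := pow_succ t k
    rw [he l, e1, e2, e3] at h
    rw [e3] at hG
    rw [e2]
    linear_combination t ^ k * t ^ k * hG - h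
  have hEg : ∀ l, ∑ p, E l p * eval Y (g p) = 0 := fun l => by
    have : E.mulVec (fun l => eval Y (g l)) = 0 := by
      rw [hgY, Matrix.mulVec_sub, Matrix.mulVec_smul, Matrix.mulVec_smul, Matrix.mulVec_mulVec, hE, Matrix.smul_mulVec,
        smul_smul, ← pow_add, two_mul, sub_self]
    exact congrFun this l
  let F := Ideal.span (Set.range fun l => eval Y (g l))
  have hPY : ∀ l p, t ^ (k + 1) ∣ eval Y (Pp l p) - E l p := fun l p => by
    have h1 := dvd_eval_sub _ (Pp l p) hYX
    have h2 : eval X (Pp l p) = E l p + t ^ (k + 1) * ρ l p := by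
      rw [← hPp, hPE]; rfl
    rw [h2] at h1
    have := dvd_add h1 (dvd_mul_right (t ^ (k + 1)) (ρ l p))
    ring_nf at this ⊢
    exact this
  have hFle : F ≤ Ideal.span {t ^ (k + 1)} := Ideal.span_le.2 (by
    rintro _ ⟨l, rfl⟩
    rw [SetLike.mem_coe, Ideal.mem_span_singleton]
    show _ ∣ eval Y (g l)
    rw [← sub_add_cancel (eval Y (g l)) (eval X (g l))]
    exact dvd_add (dvd_eval_sub _ (g l) hYX) (he l ▸ (pow_dvd_pow t (by omega)).trans (dvd_mul_right _ _)))
  have hT : Ideal.span {t ^ k} * F ≤ ⊥ := by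
    refine Submodule.le_of_le_smul_of_le_jacobson_bot
      ((Submodule.fg_span_singleton (t ^ k)).mul (Submodule.fg_span (Set.finite_range _)))
      (HenselianRing.jac (I := Ideal.span {t})) ?_
    rw [bot_sup_eq, smul_eq_mul, ← mul_assoc, Ideal.span_singleton_mul_span_singleton, ← pow_succ',
      Ideal.span_mul_span', Ideal.span_le]
    rintro _ ⟨_, rfl, _, ⟨l, rfl⟩, rfl⟩
    have hz : eval Y (C t ^ k * g l - ∑ p, Pp l p * g p) ∈ F ^ 2 := by
      have := Ideal.mem_map_of_mem (eval Y) (hid' l)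
      rwa [Ideal.map_pow, Ideal.map_span, ← Set.range_comp] at this
    rw [map_sub, map_mul, map_pow, eval_C, map_sum] at hz
    show t ^ k * eval Y (g l) ∈ _
    rw [← sub_add_cancel (t ^ k * eval Y (g l)) (∑ p, eval Y (Pp l p * g p))]
    refine add_mem (?_ : _ ∈ Ideal.span {t ^ (k + 1)} * F) ?_
    · rw [pow_two] at hz
      exact Ideal.mul_mono_left hFle hz
    · have e1 : ∑ p, eval Y (Pp l p * g p) = ∑ p, (eval Y (Pp l p) - E l p) * eval Y (g p) := by
        simp only [map_mul, sub_mul, Finset.sum_sub_distrib, hEg, sub_zero]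
      rw [e1]
      exact sum_mem fun p _ => Ideal.mul_mem_mul (Ideal.mem_span_singleton.2 (hPY l p)) (Ideal.subset_span ⟨p, rfl⟩)
  exact fun l => smul_right_cancel_pow ht k ((Ideal.mem_bot.1 (hT (Ideal.mul_mem_mul (Ideal.mem_span_singleton_self _)
    (Ideal.subset_span ⟨l, rfl⟩)))).trans (mul_zero _).symm)

end Groth.Agent.H9Elkik
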