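import Groth.Agent.H9Elkik.ModApprox
import Groth.Agent.H9Elkik.Root
import Groth.Agent.Hensel.PairBasic

/-!
# Finite projective modules over `A'[1/t]` descend along henselian approximations
-/

set_option autoImplicit false
set_option linter.style.haveILetI false

universe u

open TensorProduct LinearMap Module

noncomputable section

namespace Groth.Agent.H9Elkik

section Idem

variable {A : Type u} [CommRing A] {t : A} {At : Type u} [CommRing At] [Algebra A At] [IsLocalization.Away t At]

/-- An idempotent near an approximate idempotent with denominators bounded by `t ^ k`. -/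
theorem exists_idem_near [HenselianRing A (Ideal.span {t})] {m : ℕ} (a₀ : Matrix (Fin m) (Fin m) At) (k Q : ℕ)
    (hk : ∀ i j, ∃ c : A, algebraMap A At t ^ k * a₀ i j = algebraMap A At c) (hQ : 1 ≤ Q)
    (h : Small t (k + Q) (a₀ * a₀ - a₀)) :
    ∃ e₁ : Matrix (Fin m) (Fin m) At, e₁ * e₁ = e₁ ∧ Small t Q (e₁ - a₀) := by
  classical
  choose c hc using hk
  choose d hd using h
  let π : A →+* A ⧸ RingHom.ker (algebraMap A At) := Ideal.Quotient.mk _
  haveI : HenselianRing (A ⧸ RingHom.ker (algebraMap A At)) (Ideal.span {π t}) := by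
    have h := Hensel.henselianRing_quotient (RingHom.ker (algebraMap A At)) (Ideal.span {t})
    rwa [Ideal.map_span, Set.image_singleton] at h
  have hu : IsUnit (algebraMap A At t) := IsLocalization.Away.algebraMap_isUnit t
  have hnzd : ∀ x, π t * x = 0 → x = 0 := by
    intro x hx
    obtain ⟨x, rfl⟩ := Ideal.Quotient.mk_surjective x
    rw [← map_mul, Ideal.Quotient.eq_zero_iff_mem, RingHom.mem_ker, map_mul] at hx
    rw [Ideal.Quotient.eq_zero_iff_mem, RingHom.mem_ker]
    exact hu.mul_right_eq_zero.1 hx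
  have hπ : ∀ x y, π x = π y → algebraMap A At x = algebraMap A At y := fun x y hxy => by
    have := Ideal.Quotient.eq.1 hxy
    rwa [RingHom.mem_ker, map_sub, sub_eq_zero] at this
  let P : Matrix (Fin m) (Fin m) (A ⧸ RingHom.ker (algebraMap A At)) := (Matrix.of c).map π
  obtain ⟨E, ρ, hE, hPE⟩ := exists_matrix_idem hnzd P ((Matrix.of d).map π) k (k + Q) (by omega) (by
    ext i j
    simp only [P, Matrix.sub_apply, Matrix.mul_apply, Matrix.map_apply, Matrix.of_apply, Matrix.smul_apply, smul_eq_mul,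
      ← map_pow, ← map_mul, ← map_sum, ← map_sub]
    refine Ideal.Quotient.eq.2 ?_
    rw [RingHom.mem_ker, map_sub, sub_eq_zero]
    simp only [map_sub, map_sum, map_mul, map_pow, ← hc]
    have h1 := hd i j
    rw [Matrix.sub_apply, Matrix.mul_apply, map_mul, map_pow] at h1
    have h2 : ∑ x, algebraMap A At t ^ k * a₀ i x * (algebraMap A At t ^ k * a₀ x j) =
        algebraMap A At t ^ k * algebraMap A At t ^ k * ∑ x, a₀ i x * a₀ x j := by
      rw [Finset.mul_sum]
      exact Finset.sum_congr rfl fun x _ => by ring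
    rw [h2, two_mul, pow_add, pow_add]
    rw [pow_add] at h1
    linear_combination (algebraMap A At t) ^ k * (algebraMap A At t) ^ k * h1)
  obtain ⟨E₀, rfl⟩ : ∃ E₀ : Matrix (Fin m) (Fin m) A, E₀.map π = E :=
    ⟨E.map (Function.surjInv Ideal.Quotient.mk_surjective), by
      ext i j; exact Function.surjInv_eq Ideal.Quotient.mk_surjective _⟩
  obtain ⟨ρ₀, rfl⟩ : ∃ ρ₀ : Matrix (Fin m) (Fin m) A, ρ₀.map π = ρ :=
    ⟨ρ.map (Function.surjInv Ideal.Quotient.mk_surjective), by
      ext i j; exact Function.surjInv_eq Ideal.Quotient.mk_surjective _⟩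
  obtain ⟨u, hu'⟩ := hu.pow k
  refine ⟨Matrix.of fun i j => (↑u⁻¹ : At) * algebraMap A At (E₀ i j), ?_, fun i j => ⟨-ρ₀ i j, ?_⟩⟩
  · ext i j
    have h1 := congrFun (congrFun hE i) j
    simp only [Matrix.mul_apply, Matrix.map_apply, Matrix.smul_apply, smul_eq_mul, ← map_pow, ← map_mul,
      ← map_sum] at h1
    have h2 := hπ _ _ h1
    simp only [map_sum, map_mul, map_pow, ← hu'] at h2
    simp only [Matrix.mul_apply, Matrix.of_apply]
    calc ∑ x, (↑u⁻¹ : At) * algebraMap A At (E₀ i x) * (↑u⁻¹ * algebraMap A At (E₀ x j))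
        = ↑u⁻¹ * ↑u⁻¹ * ∑ x, algebraMap A At (E₀ i x) * algebraMap A At (E₀ x j) := by
          rw [Finset.mul_sum]
          exact Finset.sum_congr rfl fun x _ => by ring
      _ = _ := by rw [h2, mul_assoc, Units.inv_mul_cancel_left]
  · have h1 := congrFun (congrFun hPE i) j
    simp only [P, Matrix.map_apply, Matrix.add_apply, Matrix.smul_apply, smul_eq_mul, Matrix.of_apply, ← map_pow,
      ← map_mul, ← map_add] at h1
    have h2 := hπ _ _ h1
    rw [← hc i j, ← hu', map_add, map_mul, map_pow, pow_add, ← hu'] at h2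
    simp only [Matrix.sub_apply, Matrix.of_apply, map_mul, map_pow, map_neg]
    refine u.isUnit.mul_left_cancel ?_
    rw [mul_sub, Units.mul_inv_cancel_left]
    linear_combination -h2

end Idem

variable {A : Type u} [CommRing A] {t : A} {At : Type u} [CommRing At] [Algebra A At]
  [IsLocalization.Away t At] {A' : Type u} [CommRing A'] [Algebra A A'] {A't : Type u} [CommRing A't]
  [Algebra A' A't] [Algebra At A't] [Algebra A A't] [IsScalarTower A A' A't] [IsScalarTower A At A't]
  [IsLocalization.Away (algebraMap A A' t) A't]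

/-- Every finite projective module over `A'[1/t]` is the base change of one over `A[1/t]`. -/
theorem exists_projective [HenselianRing A (Ideal.span {t})] (h : Approx t (algebraMap A A'))
    (hjac' : algebraMap A A' t ∈ Ideal.jacobson (⊥ : Ideal A'))
    (M' : Type u) [AddCommGroup M'] [Module A't M'] [Module.Finite A't M'] [Module.Projective A't M'] :
    ∃ (M : Type u) (_ : AddCommGroup M) (_ : Module At M), Module.Finite At M ∧ Module.Projective At M ∧
      Nonempty (A't ⊗[At] M ≃ₗ[A't] M') := by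
  classical
  obtain ⟨m, p, i, -, -, hpi⟩ := Module.Finite.exists_comp_eq_id_of_projective A't M'
  let bm := Pi.basisFun At (Fin m)
  let bm' := Algebra.TensorProduct.basis A't bm
  let ψ := fun (Z : Matrix (Fin m) (Fin m) At) => Z.map (algebraMap At A't)
  let i₂ : M' →ₗ[A't] A't ⊗[At] (Fin m → At) := bm'.equivFun.symm.toLinearMap ∘ₗ i
  let p₂ : A't ⊗[At] (Fin m → At) →ₗ[A't] M' := p ∘ₗ bm'.equivFun.toLinearMap
  have h₂ : p₂ ∘ₗ i₂ = LinearMap.id := by
    refine LinearMap.ext fun x => ?_
    show p (bm'.equivFun (bm'.equivFun.symm (i x))) = x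
    rw [LinearEquiv.apply_symm_apply]
    exact LinearMap.congr_fun hpi x
  let e := toMatrix bm' bm' (i₂ ∘ₗ p₂)
  have he : e * e = e := by
    rw [← toMatrix_comp bm' bm' bm', LinearMap.comp_assoc _ p₂ i₂, ← LinearMap.comp_assoc _ i₂ p₂, h₂, LinearMap.id_comp]
  obtain ⟨k, hk⟩ := exists_bound (t := algebraMap A A' t) e
  obtain ⟨K, hK⟩ := exists_mul_right (l := Fin m) (t := algebraMap A A' t) (e + e - 1)
  obtain ⟨P, hPQ, hP⟩ := exists_mul_approx (t := algebraMap A A' t) e e (k + (1 + K))
  obtain ⟨a₀, ha₀⟩ := exists_approx_matrix (At := At) h P e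
  have hd : Small t (k + (1 + K)) (a₀ * a₀ - a₀) := by
    refine Small.of_map (A't := A't) h ?_
    have h1 := (hP _ _ ha₀ ha₀).add (small_sub_symm (ha₀.mono hPQ))
    rw [he, show ψ a₀ * ψ a₀ - e + (e - ψ a₀) = ψ a₀ * ψ a₀ - ψ a₀ by abel] at h1
    rwa [Matrix.map_sub _ (map_sub _), Matrix.map_mul]
  have hc : ∀ i j, ∃ c : A, algebraMap A At t ^ k * a₀ i j = algebraMap A At c := fun i j => by
    have h1 : Small (algebraMap A A' t) 0 ((algebraMap A At t ^ k • a₀).map (algebraMap At A't)) := fun i j => by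
      obtain ⟨c, hc⟩ := hk i j
      obtain ⟨d, hd⟩ := ha₀.mono (Nat.zero_le P) i j
      refine ⟨algebraMap A A' t ^ k * d + c, ?_⟩
      rw [Matrix.sub_apply, pow_zero, one_mul, sub_eq_iff_eq_add] at hd
      rw [pow_zero, one_mul, map_add, map_mul, map_pow, ← hc, ← mul_add, ← hd, Matrix.map_apply, Matrix.smul_apply,
        smul_eq_mul, map_mul, map_pow, ← IsScalarTower.algebraMap_apply, IsScalarTower.algebraMap_apply A A' A't]
      rfl
    obtain ⟨c, hc⟩ := Small.of_map (A't := A't) h h1 i j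
    exact ⟨c, by simpa using hc⟩
  obtain ⟨e₁, he₁, hs⟩ := exists_idem_near a₀ k (1 + K) hc (by omega) hd
  let f := Matrix.toLin bm bm e₁
  have hf : ∀ x, f (f x) = f x := LinearMap.congr_fun (show f ∘ₗ f = f from (toMatrix bm bm).injective (by
    rw [toMatrix_comp bm bm bm, toMatrix_toLin, he₁]))
  let i₁ : LinearMap.range f →ₗ[At] (Fin m → At) := (LinearMap.range f).subtype
  let p₁ : (Fin m → At) →ₗ[At] LinearMap.range f := f.rangeRestrict
  have h₁ : p₁ ∘ₗ i₁ = LinearMap.id := LinearMap.ext fun x => Subtype.ext (by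
    obtain ⟨x, y, rfl⟩ := x
    exact hf y)
  refine ⟨LinearMap.range f, inferInstance, inferInstance, Module.Finite.range f,
    Module.Projective.of_split i₁ p₁ h₁, ?_⟩
  refine (nonempty_equiv_of_close hjac' bm' i₂ p₂ h₂ (i₁.baseChange A't) (p₁.baseChange A't) (by
    rw [← LinearMap.baseChange_comp, h₁, LinearMap.baseChange_id]) ?_).map LinearEquiv.symm
  rw [show toMatrix bm' bm' (i₁.baseChange A't ∘ₗ p₁.baseChange A't) = ψ e₁ by
    rw [← LinearMap.baseChange_comp]
    refine (LinearMap.toMatrix_baseChange A't (i₁ ∘ₗ p₁) bm bm).trans ?_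
    rw [show i₁ ∘ₗ p₁ = f from rfl, toMatrix_toLin]]
  refine hK 1 _ ?_
  have h1 := (hs.map (A' := A') (A't := A't)).add (ha₀.mono (Q := 1 + K) (by omega))
  rwa [Matrix.map_sub _ (map_sub _), sub_add_sub_cancel] at h1

end Groth.Agent.H9Elkik
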