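import Groth.Agent.H9Elkik.Square
import Groth.Agent.H9Elkik.Core
import Groth.Agent.H9Elkik.Model
import Groth.Agent.Hensel.FiniteEtaleLift
import Mathlib.RingTheory.QuasiFinite.Basic
import Mathlib.RingTheory.Etale.QuasiFinite
import Mathlib.RingTheory.Smooth.StandardSmoothOfFree

/-!
# The finite étale algebra of roots of a square system
-/

set_option autoImplicit false
set_option linter.style.haveILetI false

universe u

open MvPolynomial TensorProduct

noncomputable section

namespace Groth.Agent.H9Elkik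

section Def

variable {A : Type u} [CommRing A] (t : A) (At : Type u) [CommRing At] [Algebra A At] {n : ℕ}
  (g : Fin n → MvPolynomial (Fin n) A) (C₀ : Type u) [CommRing C₀] [Algebra At C₀] [Algebra A C₀]
  (x : Fin n → C₀)

/-- `C₀` is generated over `At` by a universal integral root of `g`. -/
structure IsRootAlg : Prop where
  integral : ∀ i, IsIntegral A (x i)
  root : ∀ l, aeval x (g l) = 0
  ext : ∀ (D : Type u) [CommRing D] [Algebra At D] (f h : C₀ →ₐ[At] D), (∀ i, f (x i) = h (x i)) → f = h
  univ : ∀ (D : Type u) [CommRing D] [Algebra At D] [Algebra A D] [IsScalarTower A At D] (E : Subalgebra A D),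
    algebraMap A E t ∈ Ideal.jacobson (⊥ : Ideal E) → ∀ y : Fin n → E, (∀ l, aeval y (g l) = 0) →
      ∃ f : C₀ →ₐ[At] D, ∀ i, f (x i) = y i

end Def

variable {A : Type u} [CommRing A] {t : A}

theorem quasiFinite_of_finite_quotient {At : Type u} [CommRing At] [Algebra A At] [IsLocalization.Away t At]
    (U B : Type u) [CommRing U] [CommRing B] [Algebra A U] [Algebra U B] [Algebra A B] [IsScalarTower A U B]
    [Algebra At B] [IsScalarTower A At B] [Algebra.FiniteType A U] [Algebra.QuasiFinite At B]
    [IsLocalization.Away (algebraMap A U t) B] [Module.Finite A (U ⧸ Ideal.span {algebraMap A U t})] :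
    Algebra.QuasiFinite A U := by
  classical
  refine Algebra.QuasiFinite.iff_finite_comap_preimage_singleton.2 fun p => ?_
  haveI : Algebra.QuasiFinite A At := Algebra.QuasiFinite.of_isLocalization (S := A) (Submonoid.powers t)
  haveI : Algebra.QuasiFinite A B := Algebra.QuasiFinite.trans A At B
  refine ((((Algebra.QuasiFinite.finite_comap_preimage_singleton (S := U ⧸ Ideal.span {algebraMap A U t}) p).image
    (PrimeSpectrum.comap (Ideal.Quotient.mk _))).union
    ((Algebra.QuasiFinite.finite_comap_preimage_singleton (S := B) p).image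
      (PrimeSpectrum.comap (algebraMap U B))))).subset ?_
  intro q hq
  by_cases hm : algebraMap A U t ∈ q.asIdeal
  · left
    have hr : q ∈ Set.range (PrimeSpectrum.comap (Ideal.Quotient.mk (Ideal.span {algebraMap A U t}))) := by
      rw [range_comap_of_surjective _ _ Ideal.Quotient.mk_surjective, Ideal.mk_ker]
      exact (Ideal.span_singleton_le_iff_mem _).2 hm
    obtain ⟨q', rfl⟩ := hr
    exact ⟨q', hq, rfl⟩
  · right
    obtain ⟨q', rfl⟩ : q ∈ Set.range (PrimeSpectrum.comap (algebraMap U B)) := by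
      rw [PrimeSpectrum.localization_away_comap_range B (algebraMap A U t)]
      exact hm
    refine ⟨q', ?_, rfl⟩
    rw [Set.mem_preimage, Set.mem_singleton_iff] at hq ⊢
    rw [← hq, IsScalarTower.algebraMap_eq A U B, PrimeSpectrum.comap_comp]
    rfl

variable {n : ℕ}

/-- `C₀` is generated by a universal root at which `1 - t * d` is invertible. -/
structure IsLocRoot (t : A) (At : Type u) [CommRing At] [Algebra A At] (g : Fin n → MvPolynomial (Fin n) A)
    (d : MvPolynomial (Fin n) A) (B : Type u) [CommRing B] [Algebra At B] [Algebra A B] (x : Fin n → B) (v : B) :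
    Prop where
  root : ∀ l, aeval x (g l) = 0
  inv : (1 - algebraMap A B t * aeval x d) * v = 1
  gen : ∀ b : B, ∃ e : ℕ, algebraMap A B t ^ e * b ∈ Algebra.adjoin A (insert v (Set.range x))
  ext : ∀ (D : Type u) [CommRing D] [Algebra At D] (f h : B →ₐ[At] D), (∀ i, f (x i) = h (x i)) → f = h
  univ : ∀ (D : Type u) [CommRing D] [Algebra At D] [Algebra A D] [IsScalarTower A At D] (y : Fin n → D),
    (∀ l, aeval y (g l) = 0) → IsUnit (1 - algebraMap A D t * aeval y d) →
      ∃ f : B →ₐ[At] D, ∀ i, f (x i) = y i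

theorem exists_locRoot (At : Type u) [CommRing At] [Algebra A At] [IsLocalization.Away t At]
    (g : Fin n → MvPolynomial (Fin n) A) (m : ℕ) (ζ d : MvPolynomial (Fin n) A) (c : Fin n → MvPolynomial (Fin n) A)
    (hid : C t ^ m = ζ * jdet g + ∑ j, c j * g j + C t ^ (m + 1) * d) :
    ∃ (B : Type u) (_ : CommRing B) (_ : Algebra At B) (_ : Algebra A B) (_ : IsScalarTower A At B)
      (x : Fin n → B) (v : B), Algebra.Etale At B ∧ IsLocRoot t At g d B x v := by
  classical
  let gAt : Fin n → MvPolynomial (Fin n) At := fun j => MvPolynomial.map (algebraMap A At) (g j)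
  let Q₀ : Algebra.PreSubmersivePresentation At (MvPolynomial (Fin n) At ⧸ Ideal.span (Set.range gAt)) (Fin n) (Fin n) :=
    Algebra.PreSubmersivePresentation.naive id Function.injective_id
  let R₀ := MvPolynomial (Fin n) At ⧸ Ideal.span (Set.range gAt)
  let x₀ : Fin n → R₀ := fun i => Ideal.Quotient.mk _ (X i)
  let wp : MvPolynomial (Fin n) A := 1 - C t * d
  let w : R₀ := aeval x₀ wp
  have hx₀ : ∀ p : MvPolynomial (Fin n) A,
      aeval x₀ p = Ideal.Quotient.mk (Ideal.span (Set.range gAt)) (MvPolynomial.map (algebraMap A At) p) := fun p => by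
    induction p using MvPolynomial.induction_on with
    | C r => rw [aeval_C, map_C]; rfl
    | add p q hp hq => simp only [map_add, hp, hq]
    | mul_X p i hp => simp only [map_mul, aeval_X, hp, map_X, x₀]
  have hroot₀ : ∀ l, aeval x₀ (g l) = 0 := fun l => by
    rw [hx₀]
    exact Ideal.Quotient.eq_zero_iff_mem.2 (Ideal.subset_span ⟨l, rfl⟩)
  have ht₀ : IsUnit (algebraMap A R₀ t) := by
    rw [IsScalarTower.algebraMap_apply A At R₀]
    exact (IsLocalization.Away.algebraMap_isUnit t).map _
  have hj : Q₀.jacobian = aeval x₀ (jdet g) := by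
    rw [hx₀, map_jdet, Q₀.jacobian_eq_jacobiMatrix_det]
    show Ideal.Quotient.mk _ Q₀.jacobiMatrix.det = _
    congr 2
    ext i j : 1
    rw [Algebra.PreSubmersivePresentation.jacobiMatrix_apply]
    rfl
  have hwj : algebraMap A R₀ t ^ m * w = aeval x₀ ζ * Q₀.jacobian := by
    have := congrArg (aeval x₀) hid
    simp only [map_add, map_mul, map_pow, map_sum, aeval_C, hroot₀, mul_zero, Finset.sum_const_zero, add_zero] at this
    simp only [w, wp, map_sub, map_one, map_mul, aeval_C, hj]
    linear_combination this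
  let B := Localization.Away w
  let Q₁ := Algebra.PreSubmersivePresentation.localizationAway B w
  have hju : IsUnit (Q₁.comp Q₀).jacobian := by
    rw [Algebra.PreSubmersivePresentation.comp_jacobian_eq_jacobian_smul_jacobian,
      Algebra.PreSubmersivePresentation.localizationAway_jacobian, Algebra.smul_def]
    refine IsUnit.mul ?_ (IsLocalization.Away.algebraMap_isUnit w)
    have h1 := ((ht₀.pow m).map (algebraMap R₀ B)).mul (IsLocalization.Away.algebraMap_isUnit (S := B) w)
    rw [← map_mul, hwj, map_mul] at h1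
    exact isUnit_of_mul_isUnit_right h1
  let S' : Algebra.SubmersivePresentation At B (Unit ⊕ Fin n) (Unit ⊕ Fin n) := ⟨Q₁.comp Q₀, hju⟩
  haveI : Algebra.Etale At B := Algebra.Etale.iff_isStandardSmoothOfRelativeDimension_zero.mpr
    (S'.isStandardSmoothOfRelativeDimension (by simp [Algebra.Presentation.dimension]))
  let xB : Fin n → B := fun i => algebraMap R₀ B (x₀ i)
  let v : B := IsLocalization.Away.invSelf w
  have hv : algebraMap R₀ B w * v = 1 := IsLocalization.Away.mul_invSelf w
  have haevB : ∀ p : MvPolynomial (Fin n) A, aeval xB p = algebraMap R₀ B (aeval x₀ p) := fun p =>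
    aeval_algebraMap_apply _ _ p
  refine ⟨B, inferInstance, inferInstance, inferInstance, inferInstance, xB, v, inferInstance,
    fun l => by rw [haevB, hroot₀, map_zero], ?_, fun b => ?_, ?_, ?_⟩
  · refine Eq.trans ?_ hv
    rw [haevB]
    simp only [w, wp, map_sub, map_one, map_mul, aeval_C, ← IsScalarTower.algebraMap_apply A R₀ B]
  · obtain ⟨k, r, hr⟩ := IsLocalization.Away.surj (S := B) w b
    obtain ⟨p, rfl⟩ := Ideal.Quotient.mk_surjective r
    obtain ⟨e, p₀, hp⟩ := exists_clear_poly (A := A) (t := t) p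
    refine ⟨e, ?_⟩
    have h1 : algebraMap A B t ^ e * algebraMap R₀ B (Ideal.Quotient.mk (Ideal.span (Set.range gAt)) p) =
        aeval xB p₀ := by
      rw [haevB, hx₀, ← hp, map_mul, map_mul, map_pow, map_pow, IsScalarTower.algebraMap_apply A R₀ B]
      rfl
    rw [show algebraMap A B t ^ e * b = algebraMap A B t ^ e *
        algebraMap R₀ B (Ideal.Quotient.mk (Ideal.span (Set.range gAt)) p) * v ^ k by
      rw [← hr, mul_assoc, mul_assoc, ← mul_pow, hv, one_pow, mul_one], h1]
    refine mul_mem ?_ (pow_mem (Algebra.subset_adjoin (Set.mem_insert _ _)) k)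
    refine Algebra.adjoin_mono (Set.subset_insert _ _) ?_
    rw [Algebra.adjoin_range_eq_range_aeval]
    exact ⟨p₀, rfl⟩
  · intro D _ _ f h hfh
    refine AlgHom.coe_ringHom_injective (IsLocalization.ringHom_ext (Submonoid.powers w) ?_)
    refine Ideal.Quotient.ringHom_ext (MvPolynomial.ringHom_ext (fun r => ?_) fun i => hfh i)
    show f (algebraMap At B r) = h (algebraMap At B r)
    rw [f.commutes, h.commutes]
  · intro D _ _ _ _ y hy hu
    let f₀ : R₀ →ₐ[At] D := Ideal.Quotient.liftₐ _ (aeval y) fun p hp => by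
      refine (Ideal.span_le.2 ?_ : Ideal.span (Set.range gAt) ≤ RingHom.ker (aeval (R := At) y)) hp
      rintro _ ⟨l, rfl⟩
      rw [SetLike.mem_coe, RingHom.mem_ker, aeval_map_algebraMap, hy]
    have hwD : IsUnit (f₀ w) := by
      have e : f₀ w = aeval y wp := by
        simp only [w]
        rw [hx₀]
        exact aeval_map_algebraMap _ _ wp
      rw [e]
      simpa only [wp, map_sub, map_one, map_mul, aeval_C] using hu
    refine ⟨IsLocalization.liftAlgHom (M := Submonoid.powers w) (f := f₀) (by
      rintro ⟨_, k, rfl⟩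
      rw [map_pow]
      exact hwD.pow k), fun i => (IsLocalization.lift_eq _ (x₀ i)).trans (aeval_X _ i)⟩

variable {At : Type u} [CommRing At] [Algebra A At] [IsLocalization.Away t At]
  {B : Type u} [CommRing B] [Algebra At B] [Algebra A B] [IsScalarTower A At B] {x : Fin n → B} {v : B}
  {g : Fin n → MvPolynomial (Fin n) A} {m : ℕ} {d : MvPolynomial (Fin n) A}

theorem finite_lattice_quotient (hL : IsLocRoot t At g d B x v) (hb : Bdd t g m) :
    Module.Finite A (Algebra.adjoin A (insert v (Set.range x)) ⧸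
      Ideal.span {algebraMap A (Algebra.adjoin A (insert v (Set.range x))) t}) := by
  classical
  choose P a b hP hPid using hb
  let U := Algebra.adjoin A (insert v (Set.range x))
  let xU : Fin n → U := fun i => ⟨x i, Algebra.subset_adjoin (Or.inr ⟨i, rfl⟩)⟩
  let vU : U := ⟨v, Algebra.subset_adjoin (Or.inl rfl)⟩
  let τ : U := algebraMap A U t
  have haevU : ∀ p : MvPolynomial (Fin n) A, ((aeval xU p : U) : B) = aeval x p := fun p =>
    (aeval_algebraMap_apply (B := B) xU p).symm
  have htB : IsUnit (algebraMap A B t) := by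
    rw [IsScalarTower.algebraMap_apply A At B]
    exact (IsLocalization.Away.algebraMap_isUnit t).map _
  let q := Ideal.Quotient.mkₐ A (Ideal.span {τ})
  have hτ0 : q τ = 0 := Ideal.Quotient.eq_zero_iff_mem.2 (Ideal.mem_span_singleton_self τ)
  have hv1 : (1 - τ * aeval xU d) * vU = 1 := by
    refine Subtype.ext ?_
    show ((1 : B) - algebraMap A B t * ((aeval xU d : U) : B)) * v = 1
    rw [haevU]
    exact hL.inv
  have hvq : q vU = 1 := by
    have := congrArg q hv1
    rwa [map_mul, map_sub, map_one, map_mul, hτ0, zero_mul, sub_zero, one_mul] at this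
  have hint : ∀ i, IsIntegral A (q (xU i)) := fun i => by
    refine ⟨P i, hP i, ?_⟩
    have h1 : algebraMap A B t ^ m * Polynomial.aeval (x i) (P i) = algebraMap A B t ^ (m + 1) * aeval x (b i) := by
      have := congrArg (aeval x) (hPid i)
      simpa only [map_add, map_mul, map_pow, map_sum, aeval_C, hL.root, mul_zero, Finset.sum_const_zero, zero_add,
        ← Polynomial.aeval_algHom_apply, aeval_X] using this
    have h2 : Polynomial.aeval (xU i) (P i) = τ * aeval xU (b i) := by
      refine Subtype.ext ((htB.pow m).mul_left_cancel ?_)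
      show algebraMap A B t ^ m * ((Polynomial.aeval (xU i) (P i) : U) : B) =
        algebraMap A B t ^ m * (algebraMap A B t * ((aeval xU (b i) : U) : B))
      rw [haevU, ← mul_assoc, ← pow_succ, ← h1, show ((Polynomial.aeval (xU i) (P i) : U) : B) = Polynomial.aeval (x i) (P i) from
        (Polynomial.aeval_algHom_apply U.val (xU i) (P i)).symm]
    rw [← Polynomial.aeval_def, Polynomial.aeval_algHom_apply, h2, map_mul, hτ0, zero_mul]
  refine ⟨?_⟩
  have hgen : Algebra.adjoin A (Set.range fun i => q (xU i)) = ⊤ := by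
    refine eq_top_iff.2 fun z h0 => ?_
    clear h0
    obtain ⟨⟨z, hz⟩, rfl⟩ := Ideal.Quotient.mk_surjective z
    show q ⟨z, hz⟩ ∈ _
    induction hz using Algebra.adjoin_induction with
    | mem y hy =>
      rcases hy with rfl | ⟨i, rfl⟩
      · show q vU ∈ _
        rw [hvq]; exact one_mem _
      · exact Algebra.subset_adjoin ⟨i, rfl⟩
    | algebraMap r => exact Subalgebra.algebraMap_mem _ r
    | add y y' hy₁ hy₂ hy hy' => exact (map_add q ⟨y, hy₁⟩ ⟨y', hy₂⟩) ▸ add_mem hy hy'
    | mul y y' hy₁ hy₂ hy hy' => exact (map_mul q ⟨y, hy₁⟩ ⟨y', hy₂⟩) ▸ mul_mem hy hy'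
  rw [← Algebra.top_toSubmodule, ← hgen]
  exact fg_adjoin_of_finite (Set.finite_range _) (by rintro _ ⟨i, rfl⟩; exact hint i)

theorem exists_finite_part [HenselianRing A (Ideal.span {t})] [Algebra.Etale At B]
    (hL : IsLocRoot t At g d B x v) (hb : Bdd t g m) :
    ∃ (e : B) (u : B), IsIdempotentElem e ∧ u ∈ Algebra.adjoin A (insert v (Set.range x)) ∧
      1 - e = algebraMap A B t * u ∧
      (∀ i, IsIntegral A (Ideal.Quotient.mk (Ideal.span {1 - e}) (x i))) ∧
      Module.Finite At (B ⧸ Ideal.span {1 - e}) := by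
  classical
  let U := Algebra.adjoin A (insert v (Set.range x))
  let τ : U := algebraMap A U t
  have htB : IsUnit (algebraMap A B t) := by
    rw [IsScalarTower.algebraMap_apply A At B]
    exact (IsLocalization.Away.algebraMap_isUnit t).map _
  haveI : Algebra.FiniteType A U := (Subalgebra.fg_iff_finiteType U).1
    (Subalgebra.fg_def.2 ⟨_, (Set.finite_range x).insert v, rfl⟩)
  haveI : IsLocalization.Away (algebraMap A U t) B := by
    refine (isLocalization_iff _ _).2 ⟨?_, fun z => ?_, fun {x y} h => ⟨1, by rw [Subtype.ext h]⟩⟩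
    · rintro ⟨_, e, rfl⟩
      rw [map_pow]
      exact htB.pow e
    · obtain ⟨e, he⟩ := hL.gen z
      refine ⟨⟨⟨_, he⟩, ⟨τ ^ e, e, rfl⟩⟩, ?_⟩
      rw [mul_comm]
      exact congrArg (· * z) (map_pow U.val τ e)
  haveI hfin := finite_lattice_quotient hL hb
  haveI : Algebra.QuasiFinite A U := quasiFinite_of_finite_quotient (t := t) (At := At) U B
  haveI : Module.Finite A (U ⧸ (Ideal.span {t}).map (algebraMap A U)) := by
    rw [Ideal.map_span, Set.image_singleton]; exact hfin
  obtain ⟨e, he, he1, hUe⟩ := Hensel.exists_idempotent_finite_quotient (Ideal.span {t}) U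
  rw [Ideal.map_span, Set.image_singleton] at he1
  obtain ⟨u, hu⟩ := Ideal.mem_span_singleton.1 he1
  let J : Ideal B := Ideal.span {1 - (e : B)}
  let θ : U →ₐ[A] B ⧸ J := (Ideal.Quotient.mkₐ A J).comp U.val
  have hθe : θ (1 - e) = 0 := Ideal.Quotient.eq_zero_iff_mem.2 (Ideal.mem_span_singleton_self _)
  let θe : (U ⧸ Ideal.span {1 - e}) →ₐ[A] B ⧸ J := Ideal.Quotient.liftₐ _ θ fun z hz => by
    obtain ⟨z', rfl⟩ := Ideal.mem_span_singleton'.1 hz
    rw [map_mul, hθe, mul_zero]
  refine ⟨e, u, congrArg Subtype.val he, u.2, congrArg Subtype.val hu, fun i => ?_, ?_⟩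
  · haveI := Algebra.IsIntegral.of_finite A (U ⧸ Ideal.span {1 - e})
    exact (Algebra.IsIntegral.isIntegral (R := A)
      (Ideal.Quotient.mk (Ideal.span {1 - e}) (⟨x i, Algebra.subset_adjoin (Or.inr ⟨i, rfl⟩)⟩ : U))).map θe
  obtain ⟨S, hS⟩ := (hUe.fg_top : (⊤ : Submodule A (U ⧸ Ideal.span {1 - e})).FG)
  refine ⟨⟨S.image θe, eq_top_iff.2 fun z _ => ?_⟩⟩
  obtain ⟨z, rfl⟩ := Ideal.Quotient.mk_surjective z
  obtain ⟨k, hk⟩ := hL.gen z
  have h1 : θ ⟨_, hk⟩ ∈ Submodule.span At ((S.image θe : Finset (B ⧸ J)) : Set (B ⧸ J)) := by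
    rw [Finset.coe_image]
    refine Submodule.span_le_restrictScalars A At _ ?_
    rw [← AlgHom.coe_toLinearMap, ← Submodule.map_span, hS]
    exact ⟨Ideal.Quotient.mk _ ⟨_, hk⟩, Submodule.mem_top, rfl⟩
  obtain ⟨ι, hι⟩ := (IsLocalization.Away.algebraMap_isUnit (S := At) t).pow k
  have h3 : Ideal.Quotient.mk J z = (↑ι⁻¹ : At) • θ ⟨_, hk⟩ := by
    show _ = (↑ι⁻¹ : At) • Ideal.Quotient.mk J (algebraMap A B t ^ k * z)
    rw [map_mul, map_pow, show Ideal.Quotient.mk J (algebraMap A B t) = algebraMap At (B ⧸ J) (algebraMap A At t) from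
      (IsScalarTower.algebraMap_apply A At (B ⧸ J) t), ← map_pow, ← hι, Algebra.smul_def, ← mul_assoc, ← map_mul,
      Units.inv_mul, map_one, one_mul]
  rw [h3]
  exact Submodule.smul_mem _ _ h1

theorem exists_rootAlg [HenselianRing A (Ideal.span {t})] (At : Type u) [CommRing At] [Algebra A At]
    [IsLocalization.Away t At] (g : Fin n → MvPolynomial (Fin n) A) (m : ℕ) (hg : Reg t g m) (hb : Bdd t g m) :
    ∃ (C₀ : Type u) (_ : CommRing C₀) (_ : Algebra At C₀) (_ : Algebra A C₀) (_ : IsScalarTower A At C₀)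
      (x : Fin n → C₀), Module.Finite At C₀ ∧ Algebra.Etale At C₀ ∧ IsRootAlg t At g C₀ x := by
  classical
  obtain ⟨ζ, c, d, hid⟩ := hg
  obtain ⟨B, _, _, _, _, x, v, hB, hL⟩ := exists_locRoot At g m ζ d c hid
  haveI := hB
  obtain ⟨e, u, he, hu, heu, hint, hfin⟩ := exists_finite_part hL hb
  let J : Ideal B := Ideal.span {1 - e}
  haveI : IsLocalization.Away e (B ⧸ J) := IsLocalization.Away.quotient_of_isIdempotentElem he
  haveI : Algebra.Etale B (B ⧸ J) := Algebra.Etale.of_isLocalizationAway e
  refine ⟨B ⧸ J, inferInstance, inferInstance, inferInstance, inferInstance, fun i => Ideal.Quotient.mk J (x i),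
    hfin, Algebra.Etale.comp At B _, ⟨hint, fun l => ?_, ?_, ?_⟩⟩
  · rw [show aeval (fun i => Ideal.Quotient.mk J (x i)) (g l) = Ideal.Quotient.mkₐ A J (aeval x (g l)) from
      (comp_aeval_apply x (Ideal.Quotient.mkₐ A J) (g l)).symm, hL.root, map_zero]
  · intro D _ _ f h hfh
    refine AlgHom.ext fun z => ?_
    obtain ⟨z, rfl⟩ := Ideal.Quotient.mk_surjective z
    exact DFunLike.congr_fun (hL.ext D (f.comp (Ideal.Quotient.mkₐ At J)) (h.comp (Ideal.Quotient.mkₐ At J)) hfh) z
  · intro D _ _ _ _ E hE y hy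
    let yD : Fin n → D := fun i => (y i : D)
    have hyD : ∀ p : MvPolynomial (Fin n) A, ((aeval y p : E) : D) = aeval yD p := fun p =>
      (aeval_algebraMap_apply (B := D) y p).symm
    obtain ⟨wE, hwE⟩ : IsUnit (1 - algebraMap A E t * aeval y d) := by
      have h := Ideal.mem_jacobson_bot.1 hE (-aeval y d)
      rwa [show algebraMap A E t * -aeval y d + 1 = 1 - algebraMap A E t * aeval y d by ring] at h
    have hw : (((wE : E)) : D) = 1 - algebraMap A D t * aeval yD d := by rw [hwE, ← hyD]; rfl
    obtain ⟨f₁, hf₁⟩ := hL.univ D yD (fun l => by rw [← hyD, hy]; rfl) (hw ▸ wE.isUnit.map E.val)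
    have hU : ∀ z ∈ Algebra.adjoin A (insert v (Set.range x)), f₁ z ∈ E := by
      intro z hz
      induction hz using Algebra.adjoin_induction with
      | mem z hz =>
        rcases hz with rfl | ⟨i, rfl⟩
        · have e1 : f₁ (aeval x d) = aeval yD d := by
            rw [← AlgHom.restrictScalars_apply A, comp_aeval_apply]
            exact congrArg (fun q => aeval q d) (funext hf₁)
          have h1 := congrArg f₁ hL.inv
          rw [map_mul, map_sub, map_mul, map_one, e1, IsScalarTower.algebraMap_apply A At B, AlgHom.commutes,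
            ← IsScalarTower.algebraMap_apply, ← hw] at h1
          have e2 : ((↑wE⁻¹ : E) : D) * ((wE : E) : D) = 1 := congrArg E.val wE.inv_mul
          rw [show f₁ z = ((↑wE⁻¹ : E) : D) by
            calc f₁ z = ((↑wE⁻¹ : E) : D) * ((wE : E) : D) * f₁ z := by rw [e2, one_mul]
              _ = _ := by rw [mul_assoc, h1, mul_one]]
          exact SetLike.coe_mem _
        · rw [hf₁]; exact SetLike.coe_mem _
      | algebraMap r =>
        rw [IsScalarTower.algebraMap_apply A At B, AlgHom.commutes, ← IsScalarTower.algebraMap_apply]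
        exact E.algebraMap_mem r
      | add z z' _ _ hz hz' => rw [map_add]; exact add_mem hz hz'
      | mul z z' _ _ hz hz' => rw [map_mul]; exact mul_mem hz hz'
    let uE : E := ⟨f₁ u, hU u hu⟩
    have hτu : f₁ (1 - e) = ((algebraMap A E t * uE : E) : D) := by
      rw [heu, map_mul, IsScalarTower.algebraMap_apply A At B, AlgHom.commutes, ← IsScalarTower.algebraMap_apply]
      rfl
    have hidem : IsIdempotentElem (algebraMap A E t * uE) := Subtype.ext (by
      rw [Subalgebra.coe_mul, ← hτu, ← map_mul, he.one_sub.eq])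
    obtain ⟨k, hk⟩ := Ideal.mem_jacobson_bot.1 (Ideal.mul_mem_right uE _ hE) (-1)
    have h2 : algebraMap A E t * uE = 0 := by
      refine k.mul_left_eq_zero.1 ?_
      rw [hk, mul_add, mul_one, mul_neg_one, mul_neg, hidem.eq, neg_add_cancel]
    refine ⟨Ideal.Quotient.liftₐ J f₁ fun z hz => ?_, fun i => hf₁ i⟩
    obtain ⟨z', rfl⟩ := Ideal.mem_span_singleton'.1 hz
    rw [map_mul, hτu, h2, ZeroMemClass.coe_zero, mul_zero]

end Groth.Agent.H9Elkik
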