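import Groth.Agent.H9Elkik.Core

/-!
# Elkik approximation over a henselian pair `(A, t)`

For a map `φ : A →+* A'` bijective modulo every power of `t`, points with values in `A'[1/t]` of smooth
`A[1/t]`-algebras are approximated by points with values in `A[1/t]`.
-/

set_option autoImplicit false
set_option linter.style.haveILetI false

universe u

namespace Groth.Agent.H9Elkik

variable {A : Type u} [CommRing A] {t : A} {At : Type u} [CommRing At] [Algebra A At] [IsLocalization.Away t At]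

theorem exists_section [HenselianRing A (Ideal.span {t})] {A' : Type u} [CommRing A'] (φ : A →+* A')
    {A't : Type u} [CommRing A't] [Algebra A' A't] [IsLocalization.Away (φ t) A't]
    (ψ : At →+* A't) (hψ : ∀ a, ψ (algebraMap A At a) = algebraMap A' A't (φ a))
    (hinj : ∀ (M : ℕ) x, φ x ∈ Ideal.span {φ t ^ M} → x ∈ Ideal.span {t ^ M})
    (hsurj : ∀ (M : ℕ) s, ∃ a, s - φ a ∈ Ideal.span {φ t ^ M})
    {B : Type u} [CommRing B] [Algebra At B] [Algebra.Smooth At B]
    (σ : B →+* A't) (hσ : ∀ z, σ (algebraMap At B z) = ψ z) (p : ℕ) {r : ℕ} (b : Fin r → B) :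
    ∃ τ : B →ₐ[At] At, ∀ i, ∃ c : A', σ (b i) - ψ (τ (b i)) = algebraMap A' A't (φ t ^ p * c) := by
  -- remove the torsion
  let Ab := A ⧸ RingHom.ker (algebraMap A At)
  let tb : Ab := Ideal.Quotient.mk _ t
  letI : Algebra Ab At := (Ideal.Quotient.lift (RingHom.ker (algebraMap A At)) (algebraMap A At) (fun _ h => h)).toAlgebra
  have halg : ∀ a : A, algebraMap Ab At (Ideal.Quotient.mk _ a) = algebraMap A At a := fun a => rfl
  have hinjA : Function.Injective (algebraMap Ab At) := RingHom.lift_injective_of_ker_le_ideal _ _ le_rfl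
  haveI : HenselianRing Ab (Ideal.span {tb}) := by
    have h := Hensel.henselianRing_quotient (RingHom.ker (algebraMap A At)) (Ideal.span {t})
    rwa [Ideal.map_span, Set.image_singleton] at h
  haveI : IsLocalization.Away tb At := by
    refine (isLocalization_iff _ _).2 ⟨?_, fun z => ?_, fun {x y} h => ⟨1, by rw [hinjA h]⟩⟩
    · rintro ⟨_, e, rfl⟩
      rw [map_pow, halg]
      exact (IsLocalization.Away.algebraMap_isUnit t).pow e
    · obtain ⟨e, a, ha⟩ := IsLocalization.Away.surj (S := At) t z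
      exact ⟨⟨Ideal.Quotient.mk _ a, ⟨tb ^ e, e, rfl⟩⟩, by rw [map_pow, halg, halg, ha]⟩
  let D : Subring A't := (algebraMap A' A't).range
  have hτ : ψ (algebraMap Ab At tb) = algebraMap A' A't (φ t) := by rw [halg, hψ]
  have hDA : ∀ a : Ab, ψ (algebraMap Ab At a) ∈ D := fun a => by
    obtain ⟨a, rfl⟩ := Ideal.Quotient.mk_surjective a
    exact ⟨φ a, by rw [halg, hψ]⟩
  obtain ⟨τ, h⟩ := exists_section_of_nzd (t := tb) hinjA ψ D hDA (fun z => by
      obtain ⟨e, a, ha⟩ := IsLocalization.Away.surj (S := A't) (φ t) z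
      exact ⟨e, a, by rw [hτ, mul_comm, ha]⟩)
    (fun N d hd => by
      obtain ⟨a', rfl⟩ := hd
      obtain ⟨a, ha⟩ := hsurj N a'
      obtain ⟨c, hc⟩ := Ideal.mem_span_singleton.1 ha
      exact ⟨Ideal.Quotient.mk _ a, _, ⟨c, rfl⟩, by rw [hτ, halg, hψ, ← map_sub, hc, map_mul, map_pow]⟩)
    (fun N x c hc h => by
      obtain ⟨x, rfl⟩ := Ideal.Quotient.mk_surjective x
      obtain ⟨c, rfl⟩ := hc
      rw [hτ, halg, hψ, ← map_pow, ← map_mul] at h
      obtain ⟨⟨_, m, rfl⟩, hm⟩ := (IsLocalization.eq_iff_exists (Submonoid.powers (φ t)) A't).1 h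
      change φ t ^ m * φ x = φ t ^ m * (φ t ^ N * c) at hm
      obtain ⟨y, hy⟩ := Ideal.mem_span_singleton.1 (hinj (m + N) (t ^ m * x) (Ideal.mem_span_singleton.2
        ⟨c, by rw [map_mul, map_pow, hm, pow_add, mul_assoc]⟩))
      refine ⟨Ideal.Quotient.mk _ y, ?_⟩
      refine hinjA ?_
      rw [show tb ^ N = Ideal.Quotient.mk (RingHom.ker (algebraMap A At)) (t ^ N) from (map_pow _ t N).symm, ← map_mul,
        halg, halg]
      refine (IsLocalization.eq_iff_exists (Submonoid.powers t) At).2 ⟨⟨_, m, rfl⟩, ?_⟩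
      show t ^ m * x = t ^ m * (t ^ N * y)
      rw [hy, pow_add, mul_assoc])
    σ hσ p b
  refine ⟨τ, fun i => ?_⟩
  obtain ⟨_, ⟨c, rfl⟩, hc⟩ := h i
  exact ⟨c, by rw [hc, hτ, map_mul, map_pow]⟩

theorem exists_algHom [HenselianRing A (Ideal.span {t})] {A' : Type u} [CommRing A'] (φ : A →+* A')
    {A't : Type u} [CommRing A't] [Algebra A' A't] [IsLocalization.Away (φ t) A't]
    (ψ : At →+* A't) (hψ : ∀ a, ψ (algebraMap A At a) = algebraMap A' A't (φ a))
    (hinj : ∀ (M : ℕ) x, φ x ∈ Ideal.span {φ t ^ M} → x ∈ Ideal.span {t ^ M})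
    (hsurj : ∀ (M : ℕ) s, ∃ a, s - φ a ∈ Ideal.span {φ t ^ M})
    {B : Type u} [CommRing B] [Algebra At B] [Algebra.Smooth At B]
    (σ : B →+* A't) (hσ : ∀ z, σ (algebraMap At B z) = ψ z) : Nonempty (B →ₐ[At] At) :=
  let ⟨τ, _⟩ := exists_section (r := 0) φ ψ hψ hinj hsurj σ hσ 0 Fin.elim0
  ⟨τ⟩

end Groth.Agent.H9Elkik
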