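import Groth.Agent.H4RG.EtaleRel
import Groth.Agent.Hensel.SmoothLift
import Groth.Agent.Hensel.PairBasic
import Groth.Agent.Hensel.Factor
import Mathlib.RingTheory.IntegralClosure.IsIntegralClosure.Basic
import Mathlib.RingTheory.Nakayama

/-!
# Square systems which are etale up to a power of `t`
-/

set_option autoImplicit false
set_option linter.style.haveILetI false

universe u

open MvPolynomial

noncomputable section

namespace Groth.Agent.H9Elkik

variable {A : Type u} [CommRing A] {n : ℕ}

/-- The jacobian determinant of a square system. -/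
def jdet (g : Fin n → MvPolynomial (Fin n) A) : MvPolynomial (Fin n) A :=
  (Matrix.of fun i j => pderiv i (g j)).det

/-- The jacobian divides `t ^ m` modulo the system and `t ^ (m + 1)`. -/
def Reg (t : A) (g : Fin n → MvPolynomial (Fin n) A) (m : ℕ) : Prop :=
  ∃ (ζ : MvPolynomial (Fin n) A) (c : Fin n → MvPolynomial (Fin n) A) (d : MvPolynomial (Fin n) A), C t ^ m = ζ * jdet g + ∑ j, c j * g j + C t ^ (m + 1) * d

/-- The coordinates are integral modulo the system and a power of `t`. -/
def Bdd (t : A) (g : Fin n → MvPolynomial (Fin n) A) (m : ℕ) : Prop :=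
  ∀ i, ∃ (P : Polynomial A) (a : Fin n → MvPolynomial (Fin n) A) (b : MvPolynomial (Fin n) A), P.Monic ∧
    C t ^ m * Polynomial.aeval (X i) P = ∑ j, a j * g j + C t ^ (m + 1) * b

theorem map_jdet {A' : Type u} [CommRing A'] (φ : A →+* A') (g : Fin n → MvPolynomial (Fin n) A) :
    MvPolynomial.map φ (jdet g) = jdet fun j => MvPolynomial.map φ (g j) := by
  rw [jdet, jdet, RingHom.map_det]
  congr 1
  ext i j
  simp [pderiv_map]

theorem Reg.map {A' : Type u} [CommRing A'] (φ : A →+* A') {t : A} {g : Fin n → MvPolynomial (Fin n) A} {m : ℕ}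
    (h : Reg t g m) : Reg (φ t) (fun j => MvPolynomial.map φ (g j)) m := by
  obtain ⟨ζ, c, d, h⟩ := h
  refine ⟨MvPolynomial.map φ ζ, fun j => MvPolynomial.map φ (c j), MvPolynomial.map φ d, ?_⟩
  have := congrArg (MvPolynomial.map φ) h
  simpa only [map_add, map_mul, map_pow, map_sum, map_C, map_jdet] using this

section Roots

variable {E : Type u} [CommRing E] [Algebra A E] {t : A}

theorem dvd_aeval_sub (g : MvPolynomial (Fin n) A) {s : E} {X Y : Fin n → E} (h : ∀ j, s ∣ Y j - X j) :
    s ∣ aeval Y g - aeval X g := by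
  rw [← Ideal.mem_span_singleton]
  have h1 := H4RG.aeval_sub_mem_span (A := A) X (fun j => Y j - X j) g
  rw [show X + (fun j => Y j - X j) = Y from funext fun j => add_sub_cancel (X j) (Y j)] at h1
  refine Ideal.span_le.2 ?_ h1
  rintro _ ⟨j, rfl⟩
  exact Ideal.mem_span_singleton.2 (h j)

theorem cancel_pow (ht : ∀ x : E, algebraMap A E t * x = 0 → x = 0) (e : ℕ) {x y : E}
    (h : algebraMap A E t ^ e * x = algebraMap A E t ^ e * y) : x = y := by
  induction e with
  | zero => simpa using h
  | succ e ih =>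
    refine ih (sub_eq_zero.1 (ht _ ?_))
    rw [mul_sub, ← mul_assoc, ← mul_assoc, ← pow_succ', h, sub_self]

theorem exists_inverse (hjac : algebraMap A E t ∈ Ideal.jacobson (⊥ : Ideal E))
    {g : Fin n → MvPolynomial (Fin n) A} {m : ℕ} (hg : Reg t g m) (Y : Fin n → E)
    (hY : ∀ l, algebraMap A E t ^ (m + 1) ∣ aeval Y (g l)) :
    ∃ N : Matrix (Fin n) (Fin n) E,
      (Matrix.of fun l j => aeval Y (pderiv j (g l))) * N = algebraMap A E t ^ m • 1 ∧
      N * (Matrix.of fun l j => aeval Y (pderiv j (g l))) = algebraMap A E t ^ m • 1 := by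
  classical
  obtain ⟨ζ, c, d, h⟩ := hg
  choose e he using hY
  let τ := algebraMap A E t
  let J : Matrix (Fin n) (Fin n) E := Matrix.of fun l j => aeval Y (pderiv j (g l))
  have hdet : J.det = aeval Y (jdet g) := by
    rw [jdet, AlgHom.map_det, ← Matrix.det_transpose]
    congr 1
  let w : E := τ * (-(∑ j, aeval Y (c j) * e j) - aeval Y d) + 1
  have h1 : τ ^ m * w = aeval Y ζ * J.det := by
    have h' := congrArg (aeval Y) h
    simp only [map_add, map_mul, map_pow, map_sum, aeval_C, he] at h'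
    simp only [w, hdet, mul_add, mul_one, mul_sub, mul_neg, Finset.mul_sum]
    rw [Finset.sum_congr rfl fun j _ => show τ ^ m * (τ * (aeval Y (c j) * e j)) =
      aeval Y (c j) * (τ ^ (m + 1) * e j) by ring]
    linear_combination h'
  obtain ⟨v, hv⟩ : IsUnit w := Ideal.mem_jacobson_bot.1 hjac _
  have hs : (↑v⁻¹ * aeval Y ζ) * J.det = τ ^ m := by
    rw [mul_assoc, ← h1, ← hv, mul_comm (τ ^ m), Units.inv_mul_cancel_left]
  refine ⟨(↑v⁻¹ * aeval Y ζ) • J.adjugate, ?_, ?_⟩
  · show J * _ = τ ^ m • _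
    rw [Matrix.mul_smul, Matrix.mul_adjugate, smul_smul, hs]
  · show _ * J = τ ^ m • _
    rw [Matrix.smul_mul, Matrix.adjugate_mul, smul_smul, hs]

theorem root_unique (ht : ∀ x : E, algebraMap A E t * x = 0 → x = 0)
    (hjac : algebraMap A E t ∈ Ideal.jacobson (⊥ : Ideal E))
    {g : Fin n → MvPolynomial (Fin n) A} {m : ℕ} (hg : Reg t g m) (X Y : Fin n → E)
    (hX : ∀ l, aeval X (g l) = 0) (hY : ∀ l, aeval Y (g l) = 0)
    (h : ∀ j, algebraMap A E t ^ (m + 1) ∣ Y j - X j) : X = Y := by
  classical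
  let τ := algebraMap A E t
  obtain ⟨N, -, hN⟩ := exists_inverse hjac hg X fun l => by rw [hX]; exact dvd_zero _
  choose r hr using h
  let R : Ideal E := Ideal.span (Set.range r)
  let d : Fin n → E := fun j => Y j - X j
  have hd : Ideal.span (Set.range d) ≤ Ideal.span {τ ^ (m + 1)} * R := Ideal.span_le.2 (by
    rintro _ ⟨j, rfl⟩
    show Y j - X j ∈ _
    rw [hr j]
    exact Ideal.mul_mem_mul (Ideal.mem_span_singleton_self _) (Ideal.subset_span ⟨j, rfl⟩))
  let J : Matrix (Fin n) (Fin n) E := Matrix.of fun l j => aeval X (pderiv j (g l))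
  have hJ : ∀ l, J.mulVec d l ∈ Ideal.span {τ ^ (2 * m + 1 + 1)} * R := fun l => by
    have h1 := H4RG.taylor_mem_sq X d (g l)
    rw [show X + d = Y from funext fun j => add_sub_cancel (X j) (Y j), hX, hY, sub_zero, zero_sub, neg_mem_iff] at h1
    have h2 := Ideal.pow_right_mono hd 2 h1
    rw [mul_pow, Ideal.span_singleton_pow, ← pow_mul, show (m + 1) * 2 = 2 * m + 1 + 1 by ring, pow_two R] at h2
    exact Ideal.mul_mono le_rfl Ideal.mul_le_left h2
  have hr' : ∀ j, r j ∈ Ideal.span {τ} * R := fun j => by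
    have h1 : (N * J).mulVec d j ∈ Ideal.span {τ ^ (2 * m + 1 + 1)} * R := by
      rw [← Matrix.mulVec_mulVec]
      simp only [Matrix.mulVec, dotProduct]
      exact sum_mem fun l _ => Ideal.mul_mem_left _ _ (hJ l)
    rw [hN, Matrix.smul_mulVec, Matrix.one_mulVec, Pi.smul_apply, smul_eq_mul, show d j = τ ^ (m + 1) * r j from hr j,
      Ideal.mem_span_singleton_mul] at h1
    obtain ⟨z, hz, hze⟩ := h1
    refine Ideal.mem_span_singleton_mul.2 ⟨z, hz, cancel_pow ht (m + (m + 1)) ?_⟩
    linear_combination hze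
  have hR : R = ⊥ := Submodule.eq_bot_of_le_smul_of_le_jacobson_bot (Ideal.span {τ}) R
    (Submodule.fg_span (Set.finite_range r)) (Ideal.span_le.2 (by rintro _ ⟨j, rfl⟩; exact hr' j))
    ((Ideal.span_singleton_le_iff_mem _).2 hjac)
  funext j
  have : r j ∈ R := Ideal.subset_span ⟨j, rfl⟩
  rw [hR, Ideal.mem_bot] at this
  exact (sub_eq_zero.1 (by rw [hr j, this, mul_zero])).symm

set_option maxHeartbeats 1000000 in
theorem exists_root_sq [HenselianRing E (Ideal.span {algebraMap A E t})]
    (ht : ∀ x : E, algebraMap A E t * x = 0 → x = 0)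
    {g : Fin n → MvPolynomial (Fin n) A} {m : ℕ} (hg : Reg t g m) (X : Fin n → E)
    (hX : ∀ l, algebraMap A E t ^ (2 * m + 1) ∣ aeval X (g l)) :
    ∃ Y : Fin n → E, (∀ l, aeval Y (g l) = 0) ∧ ∀ j, algebraMap A E t ^ (m + 1) ∣ Y j - X j := by
  classical
  let τ := algebraMap A E t
  obtain ⟨N, hN, -⟩ := exists_inverse (t := t) (HenselianRing.jac (I := Ideal.span {τ}) (Ideal.mem_span_singleton_self τ))
    hg X fun l => (pow_dvd_pow _ (by omega)).trans (hX l)
  choose e he using hX
  let W : Fin n → MvPolynomial (Fin n) E := MvPolynomial.X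
  let xc : Fin n → MvPolynomial (Fin n) E := fun j => C (X j)
  let dW : Fin n → MvPolynomial (Fin n) E := fun j => C (τ ^ m) * ∑ p, C (N j p) * W p
  have hq : ∀ l, ∃ q ∈ Ideal.span (Set.range W) ^ 2, C (τ ^ (2 * m)) * q =
      aeval (xc + dW) (g l) - aeval xc (g l) - ∑ j, aeval xc (pderiv j (g l)) * dW j := by
    intro l
    have hle : Ideal.span (Set.range dW) ≤ Ideal.span {C (τ ^ m)} * Ideal.span (Set.range W) :=
      Ideal.span_le.2 (by
        rintro _ ⟨j, rfl⟩
        exact Ideal.mul_mem_mul (Ideal.mem_span_singleton_self _)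
          (sum_mem fun p _ => Ideal.mul_mem_left _ _ (Ideal.subset_span ⟨p, rfl⟩)))
    have h2 := Ideal.pow_right_mono hle 2 (H4RG.taylor_mem_sq xc dW (g l))
    rw [mul_pow, Ideal.span_singleton_pow, ← map_pow, ← pow_mul, mul_comm m 2] at h2
    exact Ideal.mem_span_singleton_mul.1 h2
  choose q hqW hqe using hq
  let G : Fin n → MvPolynomial (Fin n) E := fun l => W l + C (τ * e l) + q l
  have hW0 : ∀ {z : MvPolynomial (Fin n) E}, z ∈ Ideal.span (Set.range W) → eval (0 : Fin n → E) z = 0 := by
    intro z hz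
    have h : Ideal.span (Set.range W) ≤ RingHom.ker (eval (0 : Fin n → E)) :=
      Ideal.span_le.2 (by rintro _ ⟨j, rfl⟩; exact RingHom.mem_ker.2 (eval_X j))
    exact h hz
  have htt : τ ∈ Ideal.span {τ} := Ideal.mem_span_singleton_self τ
  obtain ⟨w, hw, hGw⟩ := Hensel.exists_root_of_jacobian (Ideal.span {τ}) G 0 (fun l => by
      simp only [G, map_add, eval_C, W, eval_X, hW0 (Ideal.pow_le_self two_ne_zero (hqW l)),
        Pi.zero_apply, add_zero, zero_add]
      exact Ideal.mul_mem_right _ _ htt)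
    (by
      rw [RingHom.map_det, RingHom.map_det]
      convert isUnit_one
      rw [← Matrix.det_one (R := E ⧸ Ideal.span {τ}) (n := Fin n)]
      congr 1
      ext i j
      simp only [RingHom.mapMatrix_apply, Matrix.map_apply, Matrix.of_apply, G, map_add, pderiv_C, add_zero, W,
        pderiv_X, hW0 (H4RG.mem_of_mem_sq _ i (hqW j)), map_zero, Matrix.one_apply, Pi.single_apply]
      by_cases hij : i = j
      · subst hij; simp
      · simp [hij, Ne.symm hij])
  have hwt : ∀ l, τ ∣ w l := fun l => by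
    have := hw l
    rwa [Pi.zero_apply, sub_zero, Ideal.mem_span_singleton] at this
  let Y : Fin n → E := X + fun j => τ ^ m * ∑ p, N j p * w p
  refine ⟨Y, fun l => ?_, fun j => ?_⟩
  · have hev : ∀ (p : MvPolynomial (Fin n) A) (v : Fin n → MvPolynomial (Fin n) E),
        eval w (aeval v p) = aeval (fun j => eval w (v j)) p := fun p v => by
      induction p using MvPolynomial.induction_on with
      | C r => simp [MvPolynomial.algebraMap_apply]
      | add p q hp hq => simp only [map_add, hp, hq]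
      | mul_X p i hp => simp only [map_mul, aeval_X, hp]
    have h1 := congrArg (eval w) (hqe l)
    have e2 : (fun j => eval w ((xc + dW) j)) = Y := funext fun j => by simp [xc, dW, W, Y]
    have e3 : (fun j => eval w (xc j)) = X := funext fun j => by simp [xc]
    simp only [map_sub, map_mul, map_sum, eval_C, hev, e2, e3, he] at h1
    have h2 : ∑ j, aeval X (pderiv j (g l)) * eval w (dW j) = τ ^ (2 * m) * w l := by
      have h3 : (((Matrix.of fun l j => aeval X (pderiv j (g l))) * N).mulVec w) l = τ ^ m * w l := by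
        rw [hN, Matrix.smul_mulVec, Matrix.one_mulVec, Pi.smul_apply, smul_eq_mul]
      rw [← Matrix.mulVec_mulVec] at h3
      rw [show τ ^ (2 * m) * w l = τ ^ m * (τ ^ m * w l) by ring, ← h3, Matrix.mulVec, dotProduct, Finset.mul_sum]
      refine Finset.sum_congr rfl fun j _ => ?_
      simp only [dW, W, map_mul, map_sum, eval_C, eval_X, Matrix.of_apply, Matrix.mulVec, dotProduct]
      ring
    rw [h2] at h1
    have h4 := hGw l
    simp only [G, map_add, eval_C, W, eval_X] at h4
    linear_combination -h1 + τ ^ (2 * m) * h4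
  · simp only [Y, Pi.add_apply, add_sub_cancel_left, pow_succ]
    exact mul_dvd_mul_left _ (Finset.dvd_sum fun p _ => (hwt p).mul_left _)

end Roots

end Groth.Agent.H9Elkik
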