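import Groth.Agent.H9Elkik.Section
import Groth.Agent.SchTorsor.Props
import Groth.Agent.S6004
import Mathlib.AlgebraicGeometry.Morphisms.Smooth

/-!
# Sections of smooth affine schemes and torsors over `A[1/t]`
-/

set_option autoImplicit false
set_option linter.style.haveILetI false
set_option backward.isDefEq.respectTransparency false
set_option backward.isDefEq.respectTransparency.types false

universe u

open CategoryTheory MonoidalCategory CartesianMonoidalCategory MonObj GrpObj AlgebraicGeometry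

noncomputable section

namespace Groth.Agent.H9Elkik

variable {A : Type u} [CommRing A] {t : A} {At : Type u} [CommRing At] [Algebra A At] [IsLocalization.Away t At]

theorem exists_section_scheme [HenselianRing A (Ideal.span {t})] {A' : Type u} [CommRing A'] (φ : A →+* A')
    {A't : Type u} [CommRing A't] [Algebra A' A't] [IsLocalization.Away (φ t) A't]
    (ψ : At →+* A't) (hψ : ∀ a, ψ (algebraMap A At a) = algebraMap A' A't (φ a))
    (hinj : ∀ (M : ℕ) x, φ x ∈ Ideal.span {φ t ^ M} → x ∈ Ideal.span {t ^ M})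
    (hsurj : ∀ (M : ℕ) s, ∃ a, s - φ a ∈ Ideal.span {φ t ^ M})
    {P : Scheme.{u}} [IsAffine P] (p : P ⟶ Spec (CommRingCat.of At)) [Smooth p]
    (s : Spec (CommRingCat.of A't) ⟶ P) (hs : s ≫ p = Spec.map (CommRingCat.ofHom ψ)) :
    ∃ s₀ : Spec (CommRingCat.of At) ⟶ P, s₀ ≫ p = 𝟙 _ := by
  let h : Spec Γ(P, ⊤) ⟶ Spec (CommRingCat.of At) := P.isoSpec.inv ≫ p
  let α := Spec.preimage h
  have hα : Spec.map α = h := Spec.map_preimage h
  letI : Algebra At Γ(P, ⊤) := α.hom.toAlgebra
  haveI : Algebra.Smooth At Γ(P, ⊤) := by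
    have h1 : α.hom.Smooth := (HasRingHomProperty.Spec_iff (P := @Smooth) (φ := α)).1 (hα ▸ inferInstanceAs (Smooth (P.isoSpec.inv ≫ p)))
    exact h1
  let σ := Spec.preimage (s ≫ P.isoSpec.hom)
  have hσ : α ≫ σ = CommRingCat.ofHom ψ := Spec.map_injective (by
    rw [Spec.map_comp, hα, Spec.map_preimage, Category.assoc, Iso.hom_inv_id_assoc, hs])
  obtain ⟨τ⟩ := exists_algHom φ ψ hψ hinj hsurj σ.hom (fun z => congrArg (fun f => f.hom z) hσ)
  refine ⟨Spec.map (CommRingCat.ofHom τ.toRingHom) ≫ P.isoSpec.inv, ?_⟩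
  rw [Category.assoc, show P.isoSpec.inv ≫ p = h from rfl, ← hα, ← Spec.map_comp, ← Spec.map_id]
  exact congrArg Spec.map (CommRingCat.hom_ext (RingHom.ext fun z => τ.commutes z))

theorem hasSectionOver_of_torsor [HenselianRing A (Ideal.span {t})] {A' : Type u} [CommRing A'] (φ : A →+* A')
    {A't : Type u} [CommRing A't] [Algebra A' A't] [IsLocalization.Away (φ t) A't]
    (ψ : At →+* A't) (hψ : ∀ a, ψ (algebraMap A At a) = algebraMap A' A't (φ a))
    (hinj : ∀ (M : ℕ) x, φ x ∈ Ideal.span {φ t ^ M} → x ∈ Ideal.span {t ^ M})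
    (hsurj : ∀ (M : ℕ) s, ∃ a, s - φ a ∈ Ideal.span {φ t ^ M})
    (G : Over (Spec (CommRingCat.of At))) [GrpObj G] [IsAffine G.left] [Smooth G.hom]
    (P : Over (Spec (CommRingCat.of At))) (a : AlgGrp.Action G P)
    (hP : NonAbH1.IsTorsorFor Scheme.fppfPrecoverage a)
    (hsec : NonAbH1.HasSectionOver P (Spec.map (CommRingCat.ofHom ψ))) :
    NonAbH1.HasSectionOver P (𝟙 (Spec (CommRingCat.of At))) := by
  have h' : NonAbH1.IsTorsorFor Scheme.fpqcPrecoverage a :=
    ⟨hP.1, hP.2.choose, Scheme.fppfPrecoverage_le_fpqcPrecoverage _ hP.2.choose_spec.1, hP.2.choose_spec.2⟩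
  haveI : Smooth P.hom := SchTorsor.torsor_property @Smooth h' inferInstance
  haveI : IsAffineHom P.hom := (S6004.result G P a h').1
  haveI : IsAffine P.left := isAffine_of_isAffineHom P.hom
  obtain ⟨s, hs⟩ := hsec
  exact exists_section_scheme φ ψ hψ hinj hsurj P.hom s hs

end Groth.Agent.H9Elkik
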